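import Mathlib
import Cfsg.Agent.Lib.Lie.OrderEightTypes

/-!
# The group of order thirty-two with twelve elements squaring to the identity

With squares and commutators in the centre of order two and exactly twelve elements squaring to the
identity, the group is a central product of a quaternion group and a dihedral group of order eight.
-/

set_option autoImplicit false
set_option linter.style.haveILetI false

open Subgroup

namespace Cfsg.Agent.Lie.ConstrainedFive

universe u

variable {G : Type u} [Group G]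

/-- Squares and commutators in a centre of order two. -/
structure SmallDerived (G : Type u) [Group G] (z : G) : Prop where
  ne : z ≠ 1
  sq : z * z = 1
  central : ∀ r, r * z = z * r
  squares : ∀ r, r * r = 1 ∨ r * r = z
  comm : ∀ a b : G, b * a = a * b ∨ b * a = a * b * z
  cen : ∀ r, (∀ a, r * a = a * r) → r = 1 ∨ r = z

variable {z : G}

theorem SmallDerived.anti_mul (C : SmallDerived G z) {a u v : G} (hu : u * a ≠ a * u) (hv : v * a ≠ a * v) :
    (u * v) * a = a * (u * v) := by
  have hu' := (C.comm a u).resolve_left hu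
  have hv' := (C.comm a v).resolve_left hv
  calc u * v * a = u * (v * a) := mul_assoc _ _ _
    _ = u * (a * v * z) := by rw [hv']
    _ = u * a * (v * z) := by group
    _ = a * u * z * (z * v) := by rw [hu', C.central v]
    _ = a * u * (z * z) * v := by group
    _ = a * (u * v) := by rw [C.sq, mul_one, mul_assoc]

theorem SmallDerived.anti_inv_mul (C : SmallDerived G z) {a u v : G} (hu : u * a ≠ a * u) (hv : v * a ≠ a * v) :
    (u⁻¹ * v) * a = a * (u⁻¹ * v) :=
  C.anti_mul (fun h => hu (by
    have h' : Commute u a := (Commute.inv_left_iff).1 h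
    exact h'.eq)) hv

variable [Finite G]

/-- An element of order four outside the centralizer of a given one. -/
theorem SmallDerived.exists_pair (C : SmallDerived G z) (hG : Nat.card G = 32)
    (h12 : Nat.card {r : G | r * r = 1} = 12) :
    ∃ a b : G, a * a = z ∧ b * b = z ∧ b * a ≠ a * b := by
  obtain ⟨a, ha⟩ : ∃ a : G, a * a = z := by
    by_contra h
    push Not at h
    have e : {r : G | r * r = 1} = Set.univ :=
      Set.eq_univ_of_forall fun r => (C.squares r).resolve_right (h r)
    rw [e, Nat.card_univ, hG] at h12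
    norm_num at h12
  obtain ⟨b0, hb0⟩ : ∃ b0, b0 * a ≠ a * b0 := by
    by_contra h
    push Not at h
    rcases C.cen a (fun x => (h x).symm) with rfl | rfl
    · exact C.ne (by simpa using ha.symm)
    · exact C.ne (by rw [← ha, C.sq])
  by_contra hcon
  push Not at hcon
  set s := {x : G | x * a ≠ a * x} with hs
  have hsq : s ⊆ {r : G | r * r = 1} := fun x hx =>
    (C.squares x).resolve_right fun h => hx (hcon a x ha h)
  have h1 := Set.ncard_le_ncard hsq (Set.toFinite _)
  have h2 : sᶜ.ncard ≤ s.ncard := by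
    refine Set.ncard_le_ncard_of_injOn (fun x => b0 * x) (fun x hx => ?_)
      (fun x _ y _ e => mul_left_cancel e) (Set.toFinite _)
    have hx' : x * a = a * x := by simpa [hs] using hx
    show b0 * x * a ≠ a * (b0 * x)
    rw [mul_assoc, hx', ← mul_assoc, ← mul_assoc]
    exact fun e => hb0 (mul_right_cancel e)
  have h3 := Set.ncard_add_ncard_compl s
  rw [hG] at h3
  rw [Nat.card_coe_set_eq] at h12
  omega

omit [Finite G] in
/-- The four representatives. -/
def rep (a b : G) (p : Bool × Bool) : G := (bif p.1 then b else 1) * (bif p.2 then a else 1)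

omit [Finite G] in
theorem rep_comm_iff {a b : G} (hab : b * a ≠ a * b) {c : G} (hca : c * a = a * c) (hcb : c * b = b * c) :
    ∀ p : Bool × Bool, (rep a b p * c * a = a * (rep a b p * c) ↔ p.1 = false) ∧
      (rep a b p * c * b = b * (rep a b p * c) ↔ p.2 = false) := by
  intro p
  have e1 : rep a b p * c * a = a * (rep a b p * c) ↔ rep a b p * a = a * rep a b p := by
    rw [mul_assoc, hca, ← mul_assoc, ← mul_assoc]
    exact mul_left_inj c
  have e2 : rep a b p * c * b = b * (rep a b p * c) ↔ rep a b p * b = b * rep a b p := by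
    rw [mul_assoc, hcb, ← mul_assoc, ← mul_assoc]
    exact mul_left_inj c
  rw [e1, e2]
  obtain ⟨_ | _, _ | _⟩ := p
  · exact ⟨⟨fun _ => rfl, fun _ => by simp [rep]⟩, ⟨fun _ => rfl, fun _ => by simp [rep]⟩⟩
  · refine ⟨⟨fun _ => rfl, fun _ => by simp [rep]⟩, ⟨fun h => ?_, nofun⟩⟩
    exact absurd (show b * a = a * b from (by simpa [rep] using h.symm)) hab
  · refine ⟨⟨fun h => ?_, nofun⟩, ⟨fun _ => rfl, fun _ => by simp [rep]⟩⟩
    exact absurd (show b * a = a * b by simpa [rep] using h) hab
  · refine ⟨⟨fun h => ?_, nofun⟩, ⟨fun h => ?_, nofun⟩⟩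
    · change b * a * a = a * (b * a) at h
      rw [← mul_assoc] at h
      exact absurd (mul_right_cancel h) hab
    · change b * a * b = b * (b * a) at h
      rw [mul_assoc] at h
      exact absurd (mul_left_cancel h).symm hab

omit [Finite G] in
theorem rep_unique {a b c d : G} {p q : Bool × Bool} (hab : b * a ≠ a * b) (hca : c * a = a * c)
    (hcb : c * b = b * c) (hda : d * a = a * d) (hdb : d * b = b * d) (e : rep a b p * c = rep a b q * d) :
    p = q := by
  obtain ⟨p1, p2⟩ := rep_comm_iff hab hca hcb p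
  obtain ⟨q1, q2⟩ := rep_comm_iff hab hda hdb q
  rw [e] at p1 p2
  have h1 := p1.symm.trans q1
  have h2 := p2.symm.trans q2
  revert h1 h2
  obtain ⟨_ | _, _ | _⟩ := p <;> obtain ⟨_ | _, _ | _⟩ := q <;> decide

omit [Finite G] in
theorem quat_involutions : ∀ x : QuaternionGroup 2, x * x = 1 → x = 1 ∨ x = QuaternionGroup.a 2 := by
  decide +kernel

theorem central_product (C : SmallDerived G z) (hG : Nat.card G = 32)
    (h12 : Nat.card {r : G | r * r = 1} = 12) :
    ∃ A B : Subgroup G, Nonempty (↥A ≃* QuaternionGroup 2) ∧ Nonempty (↥B ≃* DihedralGroup 4) ∧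
      (∀ x ∈ A, ∀ y ∈ B, x * y = y * x) ∧ A ⊔ B = ⊤ ∧ A ⊓ B = Subgroup.center G := by
  classical
  obtain ⟨a, b, ha, hb, hab⟩ := C.exists_pair hG h12
  set B := centralizer ({a, b} : Set G) with hBdef
  have hB : ∀ x, x ∈ B ↔ x * a = a * x ∧ x * b = b * x := fun x => by
    simp only [hBdef, mem_centralizer_iff, Set.mem_insert_iff, Set.mem_singleton_iff, forall_eq_or_imp,
      forall_eq]
    exact ⟨fun h => ⟨h.1.symm, h.2.symm⟩, fun h => ⟨h.1.symm, h.2.symm⟩⟩
  have hba : a * b ≠ b * a := fun h => hab h.symm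
  have hdec : ∀ x : G, ∃ p : Bool × Bool, ∃ c ∈ B, x = rep a b p * c := by
    intro x
    by_cases h1 : x * a = a * x <;> by_cases h2 : x * b = b * x
    · exact ⟨(false, false), x, (hB x).2 ⟨h1, h2⟩, by simp [rep]⟩
    · refine ⟨(false, true), a⁻¹ * x, (hB _).2 ⟨?_, C.anti_inv_mul hba h2⟩, by simp [rep]⟩
      rw [mul_assoc, h1, inv_mul_cancel_left, mul_inv_cancel_left]
    · refine ⟨(true, false), b⁻¹ * x, (hB _).2 ⟨C.anti_inv_mul hab h1, ?_⟩, by simp [rep]⟩
      rw [mul_assoc, h2, inv_mul_cancel_left, mul_inv_cancel_left]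
    · have e1 : b * a * a ≠ a * (b * a) := by
        rw [← mul_assoc]; exact fun e => hab (mul_right_cancel e)
      have e2 : b * a * b ≠ b * (b * a) := by
        rw [mul_assoc]; exact fun e => hba (mul_left_cancel e)
      exact ⟨(true, true), (b * a)⁻¹ * x, (hB _).2 ⟨C.anti_inv_mul e1 h1, C.anti_inv_mul e2 h2⟩, by
        simp [rep, mul_assoc]⟩
  have hBa : ∀ c ∈ B, c * a = a * c := fun c hc => ((hB c).1 hc).1
  have hBb : ∀ c ∈ B, c * b = b * c := fun c hc => ((hB c).1 hc).2
  have hrepB : ∀ (p : Bool × Bool), ∀ c ∈ B, c * rep a b p = rep a b p * c := by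
    rintro ⟨i, j⟩ c hc
    have k1 : Commute c (bif i then b else 1) := by
      cases i <;> [exact Commute.one_right c; exact hBb c hc]
    have k2 : Commute c (bif j then a else 1) := by
      cases j <;> [exact Commute.one_right c; exact hBa c hc]
    exact (k1.mul_right k2).eq
  have hrep1 : ∀ p : Bool × Bool, p ≠ (false, false) → rep a b p * rep a b p = z := by
    rintro ⟨_ | _, _ | _⟩ hp
    · exact absurd rfl hp
    · simpa [rep] using ha
    · simpa [rep] using hb
    · show b * a * (b * a) = z
      have h := (C.comm a b).resolve_left hab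
      calc b * a * (b * a) = b * (a * b) * a := by group
        _ = b * (b * a * z) * a := by
          rw [h, mul_assoc (a * b), C.sq, mul_one]
        _ = b * b * (a * (z * a)) := by group
        _ = z * (a * a * z) := by rw [hb, ← C.central a, ← mul_assoc a a z]
        _ = z := by rw [ha, C.sq, mul_one]
  have hfactor : ∀ (p q : Bool × Bool) (c d : G), c ∈ B → d ∈ B → rep a b p * c = rep a b q * d → p = q :=
    fun p q c d hc hd e => rep_unique hab (hBa c hc) (hBb c hc) (hBa d hd) (hBb d hd) e
  have hB8 : Nat.card B = 8 := by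
    have e : Nat.card ((Bool × Bool) × B) = Nat.card G := by
      refine Nat.card_congr (Equiv.ofBijective (fun p => rep a b p.1 * p.2) ⟨?_, ?_⟩)
      · rintro ⟨p, c⟩ ⟨q, d⟩ e
        obtain rfl : p = q := hfactor p q c d c.2 d.2 e
        exact Prod.ext rfl (Subtype.ext (mul_left_cancel e))
      · intro x
        obtain ⟨p, c, hc, rfl⟩ := hdec x
        exact ⟨(p, ⟨c, hc⟩), rfl⟩
    rw [Nat.card_prod, Nat.card_prod, hG, Nat.card_eq_fintype_card, Fintype.card_bool] at e
    omega
  have hzB : z ∈ B := (hB z).2 ⟨(C.central a).symm, (C.central b).symm⟩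
  -- a noncentral involution in the centralizer
  obtain ⟨c, hcB, hc2, hc1, hcz⟩ : ∃ c ∈ B, c * c = 1 ∧ c ≠ 1 ∧ c ≠ z := by
    by_contra hcon
    push Not at hcon
    set t := {c : B | (c : G) ≠ 1 ∧ (c : G) ≠ z} with ht
    have ht6 : 6 ≤ t.ncard := by
      have h1 : tᶜ.ncard ≤ 2 := by
        refine (Set.ncard_le_ncard (t := ({1, ⟨z, hzB⟩} : Set B)) ?_ (Set.toFinite _)).trans
          ((Set.ncard_insert_le _ _).trans (by simp))
        intro c hc
        simp only [ht, Set.mem_compl_iff, Set.mem_setOf_eq, not_and_or, not_not] at hc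
        rcases hc with h | h
        · exact Or.inl (Subtype.ext h)
        · exact Or.inr (Subtype.ext h)
      have h2 := Set.ncard_add_ncard_compl t
      omega
    have h18 : Nat.card ({p : Bool × Bool // p ≠ (false, false)} × t) ≤ Nat.card {r : G | r * r = 1} := by
      refine Nat.card_le_card_of_injective (fun q => ⟨rep a b q.1.1 * ((q.2 : B) : G), ?_⟩) ?_
      · have hcc : ((q.2 : B) : G) * (q.2 : B) = z := (C.squares _).resolve_left fun h =>
          q.2.2.2 (hcon _ (q.2 : B).2 h q.2.2.1)
        show rep a b q.1.1 * ((q.2 : B) : G) * (rep a b q.1.1 * ((q.2 : B) : G)) = 1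
        rw [mul_assoc, ← mul_assoc ((q.2 : B) : G), hrepB _ _ (q.2 : B).2, mul_assoc (rep a b q.1.1) _ _,
          ← mul_assoc, hrep1 _ q.1.2, hcc, C.sq]
      · rintro ⟨⟨p, hp⟩, ⟨c, hc⟩⟩ ⟨⟨q, hq⟩, ⟨d, hd⟩⟩ e
        have e' : rep a b p * (c : G) = rep a b q * (d : G) := congrArg Subtype.val e
        obtain rfl : p = q := hfactor p q c d c.2 d.2 e'
        obtain rfl : c = d := Subtype.ext (mul_left_cancel e')
        rfl
    rw [h12, Nat.card_prod, Nat.card_eq_fintype_card, Fintype.card_subtype_compl, Fintype.card_prod,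
      Fintype.card_bool, Fintype.card_subtype_eq, Nat.card_coe_set_eq] at h18
    omega
  obtain ⟨d0, hd0⟩ : ∃ d0, c * d0 ≠ d0 * c := by
    by_contra h
    push Not at h
    rcases C.cen c h with h | h
    · exact hc1 h
    · exact hcz h
  obtain ⟨p, d, hdB, rfl⟩ := hdec d0
  have hcd : c * d ≠ d * c := fun e => hd0 (by
    rw [← mul_assoc, hrepB p c hcB, mul_assoc, e, ← mul_assoc])
  set A := centralizer (B : Set G) with hAdef
  have hA : ∀ x, x ∈ A ↔ ∀ y ∈ B, x * y = y * x := fun x => by
    simp only [hAdef, mem_centralizer_iff, SetLike.mem_coe]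
    exact ⟨fun h y hy => (h y hy).symm, fun h y hy => (h y hy).symm⟩
  have hrepA : ∀ p, rep a b p ∈ A := fun p => (hA _).2 fun y hy => (hrepB p y hy).symm
  have hsup : A ⊔ B = ⊤ := (eq_top_iff' _).2 fun x => by
    obtain ⟨p, y, hy, rfl⟩ := hdec x
    exact mul_mem (le_sup_left (b := B) (hrepA p)) (le_sup_right (a := A) hy)
  have hinf : A ⊓ B = center G := by
    ext x
    rw [mem_inf, mem_center_iff]
    constructor
    · rintro ⟨hxA, hxB⟩ g
      obtain ⟨p, y, hy, rfl⟩ := hdec g
      calc rep a b p * y * x = rep a b p * (x * y) := by rw [mul_assoc, (hA x).1 hxA y hy]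
        _ = x * (rep a b p * y) := by rw [← mul_assoc, ← hrepB p x hxB, mul_assoc]
    · intro h
      exact ⟨(hA x).2 fun y _ => (h y).symm, (hB x).2 ⟨(h a).symm, (h b).symm⟩⟩
  have hA8 : Nat.card A = 8 := by
    have e : Nat.card ((Bool × Bool) × Bool) = Nat.card A := by
      have hkA : ∀ k : Bool, (bif k then z else 1) ∈ A ∧ (bif k then z else 1) ∈ B := fun k => by
        cases k
        · exact ⟨A.one_mem, B.one_mem⟩
        · exact ⟨(hA z).2 fun y _ => (C.central y).symm, hzB⟩
      refine Nat.card_congr (Equiv.ofBijective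
        (fun p => ⟨rep a b p.1 * (bif p.2 then z else 1), A.mul_mem (hrepA p.1) (hkA p.2).1⟩) ⟨?_, ?_⟩)
      · rintro ⟨p, k⟩ ⟨q, l⟩ e
        have e' := congrArg Subtype.val e
        obtain rfl : p = q := hfactor p q _ _ (hkA k).2 (hkA l).2 e'
        have e'' := mul_left_cancel e'
        cases k <;> cases l <;> first
          | rfl
          | exact absurd e'' C.ne
          | exact absurd e''.symm C.ne
      · rintro ⟨x, hx⟩
        obtain ⟨p, y, hy, rfl⟩ := hdec x
        have hyA : y ∈ A := by simpa using A.mul_mem (A.inv_mem (hrepA p)) hx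
        have hycen : y ∈ center G := hinf ▸ mem_inf.2 ⟨hyA, hy⟩
        rcases C.cen y (fun g => (mem_center_iff.1 hycen g).symm) with rfl | rfl
        · exact ⟨(p, false), rfl⟩
        · exact ⟨(p, true), rfl⟩
    rw [← e]
    simp
  refine ⟨A, B, ?_, ?_, fun x hx y hy => (hA x).1 hx y hy, hsup, hinf⟩
  · refine (Lie.OrderEight.dihedral_or_quaternion hA8 ⟨⟨a, ?_⟩, ⟨b, ?_⟩, ?_⟩).resolve_left ?_
    · simpa [rep] using hrepA (false, true)
    · simpa [rep] using hrepA (true, false)
    · exact fun e => hba (congrArg Subtype.val e)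
    rintro ⟨e⟩
    -- an involution of the first factor is `z`
    have hinv : ∀ x ∈ A, x * x = 1 → x = 1 ∨ x = z := by
      intro x hx hx2
      obtain ⟨p, y, hy, rfl⟩ := hdec x
      have hyA : y ∈ A := by simpa using A.mul_mem (A.inv_mem (hrepA p)) hx
      have hycen : y ∈ center G := hinf ▸ mem_inf.2 ⟨hyA, hy⟩
      have hyy : y * y = 1 := by
        rcases C.cen y (fun g => (mem_center_iff.1 hycen g).symm) with rfl | rfl
        exacts [one_mul 1, C.sq]
      by_cases hp : p = (false, false)
      · subst hp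
        rcases C.cen y (fun g => (mem_center_iff.1 hycen g).symm) with rfl | rfl
        · exact Or.inl (by simp [rep])
        · exact Or.inr (by simp [rep])
      · exfalso
        rw [mul_assoc, ← mul_assoc y, hrepB p y hy, mul_assoc (rep a b p) y y, hyy, mul_one,
          hrep1 p hp] at hx2
        exact C.ne hx2
    have h2 : ∀ g : DihedralGroup 4, g * g = 1 → g ≠ 1 → ((e.symm g : A) : G) = z := fun g hg hg1 => by
      refine (hinv _ (e.symm g).2 ?_).resolve_left fun h => hg1 ?_
      · rw [← Subgroup.coe_mul, ← map_mul, hg, map_one, OneMemClass.coe_one]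
      · apply e.symm.injective
        rw [map_one]
        exact Subtype.ext h
    have h3 := (h2 (DihedralGroup.r 2) (by decide) (by decide)).trans
      (h2 (DihedralGroup.sr 0) (by decide) (by decide)).symm
    exact absurd (e.symm.injective (Subtype.ext h3)) (by decide)
  · refine (Lie.OrderEight.dihedral_or_quaternion hB8 ⟨⟨c, hcB⟩, ⟨d, hdB⟩, ?_⟩).resolve_right ?_
    · exact fun e => hcd (congrArg Subtype.val e)
    rintro ⟨e⟩
    have h2 : ∀ x : B, x * x = 1 → x ≠ 1 → e x = QuaternionGroup.a 2 := fun x hx hx1 =>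
      (quat_involutions _ (by rw [← map_mul, hx, map_one])).resolve_left fun h =>
        hx1 (e.injective (by rw [h, map_one]))
    have h3 := e.injective ((h2 ⟨c, hcB⟩ (Subtype.ext hc2) fun h => hc1 (congrArg Subtype.val h)).trans
      (h2 ⟨z, hzB⟩ (Subtype.ext C.sq) fun h => C.ne (congrArg Subtype.val h)).symm)
    exact hcz (congrArg Subtype.val h3)

end Cfsg.Agent.Lie.ConstrainedFive
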