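import Cfsg.Agent.Lib.Lie.ConstrainedFive.Module

/-!
# No second layer of order sixteen

If a noncentral layer of order sixteen sits below another, the preimage of the fixed space of an involution
together with a lift of the involution has an elementary abelian section of order thirty-two.
-/

set_option autoImplicit false
set_option linter.style.haveILetI false

open Subgroup

namespace Cfsg.Agent.Lie.ConstrainedFive

universe u

variable {Y : Type u} [Group Y] [Finite Y] {R : Subgroup Y}

/-- Every section of exponent two has order at most sixteen. -/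
theorem Top.section_le (T : Top Y R) (H : Subgroup Y) (U : Subgroup H) [U.Normal]
    (hsq : ∀ a : H, a * a ∈ U) : Nat.card (H ⧸ U) ≤ 16 := by
  have h2 : ∀ a : H ⧸ U, a * a = 1 := by
    intro a
    induction a using QuotientGroup.induction_on with | _ a
    rw [← QuotientGroup.mk_mul]
    exact (QuotientGroup.eq_one_iff _).2 (hsq a)
  have hc : ∀ a b : H ⧸ U, a * b = b * a := fun a b => by
    calc a * b = (a * b)⁻¹ := (inv_eq_of_mul_eq_one_right (h2 _)).symm
      _ = b * a := by rw [mul_inv_rev, inv_eq_of_mul_eq_one_right (h2 a),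
        inv_eq_of_mul_eq_one_right (h2 b)]
  have h := T.rank H U ⊤ ⟨⟨fun a b => Subtype.ext (hc a b)⟩⟩ fun a _ => by rw [pow_two, h2]
  rwa [Subgroup.card_top] at h

/-- A subgroup of exponent two has order at most sixteen. -/
theorem Top.subgroup_le (T : Top Y R) (H : Subgroup Y) (hsq : ∀ a ∈ H, a * a = 1) :
    Nat.card H ≤ 16 := by
  have h := T.section_le H ⊥ fun a => by
    rw [mem_bot]
    exact Subtype.ext (hsq a a.2)
  rwa [Nat.card_congr (QuotientGroup.quotientBot (G := H)).toEquiv] at h

/-- The quotient by a normal subgroup below `R`. -/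
noncomputable def Top.quot (T : Top Y R) (C : Subgroup Y) [C.Normal] (hC : C ≤ R) :
    Top (Y ⧸ C) (R.map (QuotientGroup.mk' C)) where
  f := QuotientGroup.lift C T.f fun x hx => T.f.mem_ker.2 (T.mem.1 (hC hx))
  surj a := by
    obtain ⟨y, rfl⟩ := T.surj a
    exact ⟨QuotientGroup.mk y, rfl⟩
  ker := by
    ext a
    induction a using QuotientGroup.induction_on with | _ y
    rw [MonoidHom.mem_ker, QuotientGroup.lift_mk, ← T.mem]
    refine ⟨fun h => ⟨y, h, rfl⟩, ?_⟩
    rintro ⟨r, hr, e⟩
    have : r⁻¹ * y ∈ C := QuotientGroup.eq.1 e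
    simpa using mul_mem hr (hC this)
  twoGroup := T.twoGroup.map _
  rank := Perm.SectionalTwo.sectional_quotient C T.rank

theorem Top.quot_f (T : Top Y R) (C : Subgroup Y) [C.Normal] (hC : C ≤ R) (y : Y) :
    (T.quot C hC).f (QuotientGroup.mk' C y) = T.f y := rfl

theorem no_layer (T : Top Y R) (W : Subgroup Y) [W.Normal] (hW : W ≤ R) (BW : Big T W)
    [(R.map (QuotientGroup.mk' W)).Normal]
    (BV : Big (T.quot W hW) (R.map (QuotientGroup.mk' W))) : False := by
  set π := QuotientGroup.mk' W with hπ
  have hπs : Function.Surjective π := QuotientGroup.mk'_surjective W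
  set V := R.map π with hV
  have hπV : ∀ {y : Y}, π y ∈ V → y ∈ R := fun {y} h => by
    obtain ⟨r, hr, e⟩ := h
    have : r⁻¹ * y ∈ W := QuotientGroup.eq.1 e
    simpa using mul_mem hr (hW this)
  obtain ⟨s0, t, t', g, hs, hs5, ht, ht', he, htR, -, -⟩ := T.lifts
  subst he
  have hπm : ∀ {y : Y}, y ∈ R → π y ∈ V := fun hy => mem_map_of_mem π hy
  have hfix := BV.involution (t := π t) (t' := π t') (by rw [← map_mul]; exact hπm ht)
    (by rw [← map_mul]; exact hπm ht') (by rw [← map_mul, Top.quot_f]; exact hs)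
    (by rw [← map_mul, ← map_pow]; exact hπm hs5)
  obtain ⟨v, hv, hve⟩ := hfix.2 (π (t * t)) (hπm ht) (by
    rw [← map_mul, ← map_mul, mul_assoc t t t])
  obtain ⟨m, hm, rfl⟩ := hv
  set x := m * t with hx
  haveI := T.normal
  have hxx : x * x ∈ W := by
    refine (QuotientGroup.eq_one_iff _).1 ?_
    show π (x * x) = 1
    rw [show x * x = m * (t * m * t⁻¹) * (t * t) by rw [hx]; group, map_mul, map_mul π m, map_mul π (t * m),
      map_mul π t m, map_inv, ← hve]
    exact BV.exp _ (hπm ht)
  have hfx : T.f x = T.f t := by rw [hx, map_mul, T.mem.1 hm, one_mul]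
  clear_value x
  have hxR : x ∉ R := fun h => htR (T.mem.2 (hfx ▸ T.mem.1 h))
  have hs' : T.f (x * t') ≠ 1 := by rw [map_mul, hfx, ← map_mul]; exact hs
  have hs5' : (x * t') ^ 5 ∈ R := by
    rw [T.mem, map_pow, map_mul, hfx, ← map_mul, ← map_pow, ← T.mem]; exact hs5
  have hW4 := (BW.involution (hW hxx) ht' hs' hs5').1
  have hV4 := (BV.involution (t := π x) (t' := π t') (by rw [← map_mul]; exact hπm (hW hxx))
    (by rw [← map_mul]; exact hπm ht') (by rw [← map_mul, Top.quot_f]; exact hs')
    (by rw [← map_mul, ← map_pow]; exact hπm hs5')).1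
  set K : Subgroup (Y ⧸ W) := (fixIn V (π x)).map V.subtype with hK
  have hKmem : ∀ k ∈ K, k ∈ V ∧ π x * k = k * π x := by
    rintro _ ⟨w, hw, rfl⟩
    exact ⟨w.2, hw⟩
  have hKcard : Nat.card K = 4 := by
    rw [hK, card_map_of_injective V.subtype_injective, hV4]
  have hx1 : π x * π x = 1 := by
    rw [← map_mul]; exact (QuotientGroup.eq_one_iff _).2 hxx
  let K' : Subgroup (Y ⧸ W) :=
    { carrier := {z | z ∈ K ∨ z * π x ∈ K}
      one_mem' := Or.inl K.one_mem
      mul_mem' := by
        rintro a b (ha | ha) (hb | hb)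
        · exact Or.inl (K.mul_mem ha hb)
        · exact Or.inr (by rw [mul_assoc]; exact K.mul_mem ha hb)
        · refine Or.inr ?_
          rw [mul_assoc, ← (hKmem b hb).2, ← mul_assoc]
          exact K.mul_mem ha hb
        · refine Or.inl ?_
          have e : a * b = a * π x * (b * π x) := by
            rw [mul_assoc a (π x), (hKmem _ hb).2, mul_assoc b (π x), hx1, mul_one]
          rw [e]
          exact K.mul_mem ha hb
      inv_mem' := by
        rintro a (ha | ha)
        · exact Or.inl (K.inv_mem ha)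
        · refine Or.inr ?_
          have e : a⁻¹ * π x = (a * π x)⁻¹ := by
            rw [eq_inv_iff_mul_eq_one, mul_assoc, (hKmem _ ha).2, mul_assoc a (π x), hx1, mul_one,
              inv_mul_cancel]
          rw [e]
          exact K.inv_mem ha }
  have hxK : π x ∉ K := fun h => hxR (hπV (hKmem _ h).1)
  have hK'card : Nat.card K' = 8 := by
    classical
    have e : ((K' : Set (Y ⧸ W))) = (K : Set _) ∪ (fun k => k * π x) '' (K : Set _) := by
      ext z
      show z ∈ K ∨ z * π x ∈ K ↔ _
      refine or_congr Iff.rfl ⟨fun h => ⟨z * π x, h, ?_⟩, ?_⟩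
      · show z * π x * π x = z
        rw [mul_assoc, hx1, mul_one]
      · rintro ⟨k, hk, rfl⟩
        rw [mul_assoc, hx1, mul_one]; exact hk
    show Nat.card (K' : Set (Y ⧸ W)) = 8
    rw [e, Nat.card_coe_set_eq, Set.ncard_union_eq ?_ (Set.toFinite _) (Set.toFinite _),
      Set.ncard_image_of_injective _ (mul_left_injective _), ← Nat.card_coe_set_eq]
    · show Nat.card K + Nat.card K = 8
      rw [hKcard]
    · rw [Set.disjoint_left]
      rintro z hz ⟨k, hk, rfl⟩
      exact hxK (by simpa using K.mul_mem (K.inv_mem hk) hz)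
  set H := K'.comap π with hH
  have hHcard : Nat.card H = 128 := by
    have h1 : H.index = K'.index := K'.index_comap_of_surjective hπs
    have h3 := H.card_mul_index
    have h4 := K'.card_mul_index
    have h5 := W.card_eq_card_quotient_mul_card_subgroup
    rw [hK'card] at h4
    rw [BW.card] at h5
    rw [h1] at h3
    have : 0 < K'.index := Nat.pos_of_ne_zero index_ne_zero_of_finite
    nlinarith
  have hxmem : ∀ z ∈ H, z ∈ R ∨ z * x ∈ R := by
    rintro z (h | h)
    · exact Or.inl (hπV (hKmem _ h).1)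
    · exact Or.inr (hπV (by rw [map_mul]; exact (hKmem _ h).1))
  have hfixW : ∀ z ∈ H, ∀ w ∈ W, x * w = w * x → z * w = w * z := by
    intro z hz w hw hxw
    rcases hxmem z hz with h | h
    · exact BW.R_cent z h w hw
    · have h1 := BW.R_cent _ h w hw
      rw [mul_assoc, hxw, ← mul_assoc, ← mul_assoc] at h1
      exact mul_right_cancel h1
  set U0 : Subgroup Y := (fixIn W x).map W.subtype with hU0
  have hU0card : Nat.card U0 = 4 := by rw [hU0, card_map_of_injective W.subtype_injective, hW4]
  have hU0mem : ∀ w : Y, w ∈ U0 ↔ w ∈ W ∧ x * w = w * x := by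
    intro w
    constructor
    · rintro ⟨a, ha, rfl⟩
      exact ⟨a.2, ha⟩
    · exact fun h => ⟨⟨w, h.1⟩, h.2, rfl⟩
  have hU0H : U0 ≤ H := by
    intro w hw
    refine Or.inl ?_
    rw [show π w = 1 from (QuotientGroup.eq_one_iff w).2 ((hU0mem w).1 hw).1]
    exact K.one_mem
  have hcomm : ∀ z ∈ H, π x * π z = π z * π x := by
    rintro z (h | h)
    · exact (hKmem _ h).2
    · have h1 := (hKmem _ h).2
      rw [← mul_assoc] at h1
      exact mul_right_cancel h1
  have hsqH : ∀ z ∈ H, z * z ∈ U0 := by
    intro z hz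
    have hzW : z * z ∈ W := by
      refine (QuotientGroup.eq_one_iff _).1 ?_
      show π (z * z) = 1
      rw [map_mul]
      rcases hz with h | h
      · exact BV.exp _ (hKmem _ h).1
      · have h1 := BV.exp _ (hKmem _ h).1
        rwa [mul_assoc, ← mul_assoc (π x), hcomm z (Or.inr h), mul_assoc, hx1, mul_one] at h1
    refine (hU0mem _).2 ⟨hzW, ?_⟩
    set w := z⁻¹ * (x * z * x⁻¹) with hw
    have hwW : w ∈ W := by
      refine (QuotientGroup.eq_one_iff _).1 ?_
      show π w = 1
      rw [hw, map_mul, map_mul, map_mul, map_inv, map_inv, hcomm z hz, mul_inv_cancel_right, inv_mul_cancel]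
    have e1 : x * z * x⁻¹ = z * w := by rw [hw, mul_inv_cancel_left]
    have hfix2 : x * x * z = z * (x * x) :=
      (hfixW z hz _ hxx (by rw [mul_assoc])).symm
    have hww : x * w * x⁻¹ = w⁻¹ := by
      have e2 : z = z * w * (x * w * x⁻¹) := by
        calc z = x * x * z * (x * x)⁻¹ := by rw [hfix2, mul_inv_cancel_right]
          _ = x * (x * z * x⁻¹) * x⁻¹ := by group
          _ = (x * z * x⁻¹) * (x * w * x⁻¹) := by rw [hw]; group
          _ = z * w * (x * w * x⁻¹) := by rw [e1]
      have e3 : z * 1 = z * (w * (x * w * x⁻¹)) := by rw [mul_one, ← mul_assoc, ← e2]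
      exact (inv_eq_of_mul_eq_one_right (mul_left_cancel e3).symm).symm
    have hxw : x * w = w * x := by
      rw [inv_eq_of_mul_eq_one_right (BW.exp w hwW), mul_inv_eq_iff_eq_mul] at hww
      exact hww
    have hzw := hfixW z hz w hwW hxw
    refine mul_inv_eq_iff_eq_mul.1 ?_
    calc x * (z * z) * x⁻¹ = (x * z * x⁻¹) * (x * z * x⁻¹) := by group
      _ = z * w * (z * w) := by rw [e1]
      _ = z * (w * z) * w := by group
      _ = z * z * (w * w) := by rw [← hzw]; group
      _ = z * z := by rw [BW.exp w hwW, mul_one]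
  set U := U0.subgroupOf H with hU
  have hUn : U.Normal := by
    refine ⟨fun a ha b => ?_⟩
    rw [hU, mem_subgroupOf] at ha ⊢
    obtain ⟨haW, hax⟩ := (hU0mem _).1 ha
    show (b : Y) * a * (b : Y)⁻¹ ∈ U0
    rw [hfixW b b.2 a haW hax, mul_inv_cancel_right]
    exact ha
  haveI := hUn
  have h := T.section_le H U fun a => hsqH a a.2
  have h2 := U.card_eq_card_quotient_mul_card_subgroup
  rw [hHcard, hU, Nat.card_congr (subgroupOfEquivOfLe hU0H).toEquiv, hU0card] at h2
  rw [← hU] at h2
  omega

end Cfsg.Agent.Lie.ConstrainedFive
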