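import Cfsg.Agent.Lib.Lie.ConstrainedFive.Quad
import Cfsg.Agent.Lib.Solv.Basic
import Cfsg.Agent.Lib.Solv.PGroupPhi
import Cfsg.Agent.Lib.Lead.SupersolubleCore

/-!
# Layers below the Frattini quotient

A normal subgroup below which the core has a noncentral quotient of order sixteen; a minimal normal
subgroup inside the core is central of order two or a noncentral section of order sixteen.
-/

set_option autoImplicit false
set_option linter.style.haveILetI false

open Subgroup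

namespace Cfsg.Agent.Lie.ConstrainedFive

universe u

theorem card_map_mk {Y : Type*} [Group Y] [Finite Y] {W H : Subgroup Y} [W.Normal] (h : W ≤ H) :
    Nat.card (H.map (QuotientGroup.mk' W)) * Nat.card W = Nat.card H := by
  let θ : H →* H.map (QuotientGroup.mk' W) := (QuotientGroup.mk' W).subgroupMap H
  have hk : θ.ker = W.subgroupOf H := by
    ext r
    rw [MonoidHom.mem_ker, Subtype.ext_iff, mem_subgroupOf]
    exact QuotientGroup.eq_one_iff _
  have h1 := θ.ker.card_mul_index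
  rw [index_ker, MonoidHom.range_eq_top.2 ((QuotientGroup.mk' W).subgroupMap_surjective H), card_top, hk,
    Nat.card_congr (subgroupOfEquivOfLe h).toEquiv] at h1
  rw [mul_comm]; exact h1

theorem card_preimage_hom {A B : Type*} [Group A] [Group B] [Finite A] (θ : A →* B)
    (hθ : Function.Surjective θ) (s : Set B) : Nat.card (θ ⁻¹' s) = Nat.card θ.ker * Nat.card s := by
  rw [← Nat.card_prod]
  refine (Nat.card_congr (Equiv.ofBijective (fun p : θ.ker × s => (⟨Function.surjInv hθ p.2 * (p.1 : A), by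
    show θ _ ∈ s
    rw [map_mul, Function.surjInv_eq hθ, MonoidHom.mem_ker.1 p.1.2, mul_one]
    exact p.2.2⟩ : θ ⁻¹' s)) ⟨?_, ?_⟩)).symm
  · rintro ⟨k, b⟩ ⟨k', b'⟩ e
    have e' := congrArg Subtype.val e
    have hb := congrArg θ e'
    simp only [map_mul, Function.surjInv_eq hθ, MonoidHom.mem_ker.1 k.2, MonoidHom.mem_ker.1 k'.2,
      mul_one] at hb
    obtain rfl : b = b' := Subtype.ext hb
    exact Prod.ext (Subtype.ext (mul_left_cancel e')) rfl
  · rintro ⟨a, ha⟩
    refine ⟨⟨⟨(Function.surjInv hθ (θ a))⁻¹ * a, ?_⟩, ⟨θ a, ha⟩⟩, Subtype.ext ?_⟩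
    · rw [MonoidHom.mem_ker, map_mul, map_inv, Function.surjInv_eq hθ, inv_mul_cancel]
    · exact mul_inv_cancel_left _ _

theorem two_eq {G : Type*} [Group G] {Z : Subgroup G} (hZ : Nat.card Z = 2) {a b : G} (ha : a ∈ Z)
    (hb : b ∈ Z) (ha1 : a ≠ 1) (hb1 : b ≠ 1) : a = b := by
  by_contra hne
  obtain ⟨x, y, -, hu⟩ := Nat.card_eq_two_iff.1 hZ
  have a1 : (1 : Z) ∈ ({x, y} : Set Z) := hu ▸ Set.mem_univ _
  have a2 : (⟨a, ha⟩ : Z) ∈ ({x, y} : Set Z) := hu ▸ Set.mem_univ _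
  have a3 : (⟨b, hb⟩ : Z) ∈ ({x, y} : Set Z) := hu ▸ Set.mem_univ _
  have b1 : (1 : Z) ≠ ⟨a, ha⟩ := fun e => ha1 (congrArg Subtype.val e).symm
  have b2 : (1 : Z) ≠ ⟨b, hb⟩ := fun e => hb1 (congrArg Subtype.val e).symm
  have b3 : (⟨a, ha⟩ : Z) ≠ ⟨b, hb⟩ := fun e => hne (congrArg Subtype.val e)
  simp only [Set.mem_insert_iff, Set.mem_singleton_iff] at a1 a2 a3
  grind

theorem central_of_card_two {G : Type*} [Group G] {Z : Subgroup G} [hn : Z.Normal] (hZ : Nat.card Z = 2)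
    {x : G} (hx : x ∈ Z) (y : G) : y * x = x * y := by
  by_cases h : x = 1
  · simp [h]
  · exact mul_inv_eq_iff_eq_mul.1
      (two_eq hZ (hn.conj_mem x hx y) hx (fun e => h (conj_eq_one_iff.1 e)) h)

variable {Y : Type u} [Group Y] [Finite Y] {R : Subgroup Y}

theorem Top.exists_not_mem (T : Top Y R) : ∃ y : Y, y ∉ R := by
  obtain ⟨-, -, -, g, -, -, -, -, -, -, hg, -⟩ := T.lifts
  exact ⟨g, hg⟩

/-- A minimal normal subgroup inside the core. -/
theorem Top.exists_bottom (T : Top Y R) (M : Subgroup Y) [M.Normal] (hM : M ≤ R) (hne : M ≠ ⊥) :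
    ∃ W : Subgroup Y, ∃ _ : W.Normal, W ≤ M ∧ W ≠ ⊥ ∧ (Nat.card W = 2 ∨ Big T W) := by
  haveI : Fact (Nat.Prime 2) := ⟨Nat.prime_two⟩
  obtain ⟨W, hWn, hW1, hWM, hmin⟩ := Solv.exists_minimal_normal_le M hne
  haveI := hWn
  haveI := T.normal
  have hWR := hWM.trans hM
  have hWp : IsPGroup 2 W := T.twoGroup.to_le hWR
  have hRW : ∀ r ∈ R, ∀ w ∈ W, r * w = w * r := by
    rcases hmin (W ⊓ centralizer (R : Set Y)) inferInstance inf_le_left with h | h
    · exfalso
      let N := W.subgroupOf R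
      haveI : N.Normal := inferInstance
      have hNne : N ≠ ⊥ := fun hN =>
        hW1 ((eq_bot_iff_forall _).2 fun w hw => by
          have h1 : (⟨w, hWR hw⟩ : R) ∈ N := hw
          rw [hN, mem_bot] at h1
          exact congrArg Subtype.val h1)
      obtain ⟨x, hxN, hxc, hx1⟩ := Lead.SupCore.inf_center_ne_bot' T.twoGroup N hNne
      have : (x : Y) ∈ W ⊓ centralizer (R : Set Y) :=
        ⟨hxN, fun r hr => congrArg Subtype.val (mem_center_iff.1 hxc ⟨r, hr⟩)⟩
      rw [h, mem_bot] at this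
      exact hx1 (Subtype.ext this)
    · intro r hr w hw
      exact (h.ge hw).2 r hr
  haveI : Group.IsSolvable W := by haveI := hWp.isNilpotent; infer_instance
  obtain ⟨hab, p, hp, hexp, hpW⟩ := Solv.minimal_normal_elementaryAbelian W inferInstance hW1 hmin
  have h2 : p = 2 := by
    obtain ⟨k, hk⟩ := IsPGroup.iff_card.1 hWp
    haveI := Fact.mk hp
    obtain ⟨j, hj⟩ := IsPGroup.iff_card.1 hpW
    have hk0 : k ≠ 0 := fun e => hW1 (card_eq_one.1 (by rw [hk, e, pow_zero]))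
    have : 2 ∣ p ^ j := hj ▸ hk ▸ dvd_pow_self 2 hk0
    exact ((Nat.prime_dvd_prime_iff_eq Nat.prime_two hp).1 (Nat.prime_two.dvd_of_dvd_pow this)).symm
  subst h2
  have hexp' : ∀ w ∈ W, w * w = 1 := fun w hw => by rw [← pow_two]; exact hexp w hw
  refine ⟨W, hWn, hWM, hW1, ?_⟩
  rcases T.central_or_faithful W hRW with hcen | hf
  · left
    obtain ⟨w, hw, hw1⟩ := (W.bot_or_exists_ne_one).resolve_left hW1
    haveI : (zpowers w).Normal := ⟨fun a ha y => by
      have haW : a ∈ W := zpowers_le.2 hw ha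
      rw [hcen y a haW, mul_inv_cancel_right]; exact ha⟩
    rcases hmin (zpowers w) inferInstance (zpowers_le.2 hw) with h | h
    · exact absurd (zpowers_eq_bot.1 h) hw1
    · rw [← h, Nat.card_zpowers, orderOf_eq_prime (hexp w hw) hw1]
  · right
    have h16 := T.subgroup_le W hexp'
    obtain ⟨k, hk⟩ := IsPGroup.iff_card.1 hWp
    have hk4 : k = 4 := by
      by_contra hne
      rcases Nat.lt_or_gt_of_ne hne with h | h
      · obtain ⟨y, hy⟩ := T.exists_not_mem
        exact hy (hf y (T.small_central W hWp hRW (by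
          rw [hk]
          calc 2 ^ k ≤ 2 ^ 3 := Nat.pow_le_pow_right two_pos (by omega)
            _ = 8 := by norm_num) y))
      · have : 2 ^ 5 ≤ 2 ^ k := Nat.pow_le_pow_right two_pos h
        omega
    exact ⟨by rw [hk, hk4]; norm_num, hexp',
      fun a ha b hb => congrArg Subtype.val (hab.is_comm.comm ⟨a, ha⟩ ⟨b, hb⟩), hRW, hf⟩

/-- Below `F` the core has a noncentral quotient of exponent two and order sixteen. -/
structure Layer (T : Top Y R) (F : Subgroup Y) : Prop where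
  le : F ≤ R
  sq : ∀ r ∈ R, r * r ∈ F
  card : Nat.card R = 16 * Nat.card F
  faithful : ∀ y : Y, (∀ r ∈ R, y * r * y⁻¹ * r⁻¹ ∈ F) → y ∈ R

variable {T : Top Y R} {F : Subgroup Y} [F.Normal]

theorem map_sq_comm (hsq : ∀ r ∈ R, r * r ∈ F) :
    (∀ a ∈ R.map (QuotientGroup.mk' F), a * a = 1) ∧
      ∀ a ∈ R.map (QuotientGroup.mk' F), ∀ b ∈ R.map (QuotientGroup.mk' F), a * b = b * a := by
  have hexp : ∀ a ∈ R.map (QuotientGroup.mk' F), a * a = 1 := by
    rintro _ ⟨r, hr, rfl⟩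
    rw [← map_mul]
    exact (QuotientGroup.eq_one_iff _).2 (hsq r hr)
  refine ⟨hexp, fun a ha b hb => ?_⟩
  calc a * b = (a * b)⁻¹ := (inv_eq_of_mul_eq_one_right (hexp _ (mul_mem ha hb))).symm
    _ = b * a := by rw [mul_inv_rev, inv_eq_of_mul_eq_one_right (hexp a ha),
      inv_eq_of_mul_eq_one_right (hexp b hb)]

theorem faithful_quot (hf : ∀ y : Y, (∀ r ∈ R, y * r * y⁻¹ * r⁻¹ ∈ F) → y ∈ R) :
    ∀ y : Y ⧸ F, (∀ w ∈ R.map (QuotientGroup.mk' F), y * w = w * y) → y ∈ R.map (QuotientGroup.mk' F) := by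
  intro y hy
  obtain ⟨y, rfl⟩ := QuotientGroup.mk'_surjective F y
  refine mem_map_of_mem _ (hf y fun r hr => (QuotientGroup.eq_one_iff _).1 ?_)
  show QuotientGroup.mk' F (y * r * y⁻¹ * r⁻¹) = 1
  rw [map_mul, map_mul, map_mul, map_inv, map_inv, hy _ (mem_map_of_mem _ hr), mul_inv_cancel_right,
    mul_inv_cancel]

/-- A layer from faithfulness alone. -/
theorem Layer.of_faithful (hle : F ≤ R) (hsq : ∀ r ∈ R, r * r ∈ F)
    (hf : ∀ y : Y, (∀ r ∈ R, y * r * y⁻¹ * r⁻¹ ∈ F) → y ∈ R) : Layer T F := by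
  haveI : Fact (Nat.Prime 2) := ⟨Nat.prime_two⟩
  haveI := T.normal
  set π := QuotientGroup.mk' F
  haveI : (R.map π).Normal := Normal.map inferInstance _ (QuotientGroup.mk'_surjective F)
  obtain ⟨hexp, hcomm⟩ := map_sq_comm (R := R) hsq
  refine ⟨hle, hsq, ?_, hf⟩
  rw [← card_map_mk hle]
  congr 1
  have hp : IsPGroup 2 (R.map π) := T.twoGroup.map _
  obtain ⟨k, hk⟩ := IsPGroup.iff_card.1 hp
  have h16 := (T.quot F hle).subgroup_le (R.map π) hexp
  by_contra hne
  have hk3 : k ≤ 3 := by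
    by_contra h
    have h4 : 2 ^ 4 ≤ 2 ^ k := Nat.pow_le_pow_right two_pos (by omega)
    exact hne (by rw [hk] at h16 ⊢; omega)
  obtain ⟨y, hy⟩ := T.exists_not_mem
  have hc := (T.quot F hle).small_central (R.map π) hp (fun r hr w hw => hcomm r hr w hw) (by
    rw [hk]
    calc 2 ^ k ≤ 2 ^ 3 := Nat.pow_le_pow_right two_pos hk3
      _ = 8 := by norm_num)
  refine hy (hf y fun r hr => (QuotientGroup.eq_one_iff _).1 ?_)
  show π (y * r * y⁻¹ * r⁻¹) = 1
  rw [map_mul, map_mul, map_mul, map_inv, map_inv, hc _ _ (mem_map_of_mem _ hr), mul_inv_cancel_right,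
    mul_inv_cancel]

theorem Layer.big (L : Layer T F) [(R.map (QuotientGroup.mk' F)).Normal] :
    Big (T.quot F L.le) (R.map (QuotientGroup.mk' F)) := by
  obtain ⟨hexp, hcomm⟩ := map_sq_comm (R := R) L.sq
  refine ⟨?_, hexp, hcomm, hcomm, faithful_quot L.faithful⟩
  have h := card_map_mk L.le
  rw [L.card] at h
  exact Nat.eq_of_mul_eq_mul_right Nat.card_pos h

theorem Layer.quot (L : Layer T F) {W : Subgroup Y} [W.Normal] (hWF : W ≤ F) :
    Layer (T.quot W (hWF.trans L.le)) (F.map (QuotientGroup.mk' W)) := by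
  refine ⟨map_mono L.le, ?_, ?_, ?_⟩
  · rintro _ ⟨r, hr, rfl⟩
    rw [← map_mul]
    exact mem_map_of_mem _ (L.sq r hr)
  · refine Nat.eq_of_mul_eq_mul_right (Nat.card_pos : 0 < Nat.card W) ?_
    rw [mul_assoc, card_map_mk (hWF.trans L.le), card_map_mk hWF, L.card]
  · intro y hy
    obtain ⟨y, rfl⟩ := QuotientGroup.mk'_surjective W y
    refine mem_map_of_mem _ (L.faithful y fun r hr => ?_)
    have := hy _ (mem_map_of_mem _ hr)
    rw [← map_inv, ← map_inv, ← map_mul, ← map_mul, ← map_mul] at this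
    obtain ⟨f, hf, e⟩ := this
    simpa using mul_mem hf (hWF (QuotientGroup.eq.1 e))

/-- A layer of order two. -/
theorem Layer.quad (L : Layer T F) (h2 : Nat.card F = 2) :
    ∃ z, QuadCore R z ∧ z ∈ F ∧ (∀ y : Y, y * z = z * y) ∧ Nat.card R = 32 ∧
      (∀ r ∈ R, (∀ a ∈ R, r * a = a * r) → r = 1 ∨ r = z) ∧
      Nat.card {r : R | (r : Y) * r = 1} = 12 := by
  haveI := T.normal
  haveI : (R.map (QuotientGroup.mk' F)).Normal :=
    Normal.map inferInstance _ (QuotientGroup.mk'_surjective F)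
  refine T.quad F L.le h2 L.sq ?_ L.big
  by_contra h
  push Not at h
  have := T.subgroup_le R h
  rw [L.card, h2] at this
  omega

end Cfsg.Agent.Lie.ConstrainedFive
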