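import Cfsg.Agent.Lib.Lie.ConstrainedFive.Layers
import Cfsg.Agent.Lib.Lie.ConstrainedFive.Central

/-!
# The subgroup below a layer has order at most two
-/

set_option autoImplicit false
set_option linter.style.haveILetI false

open Subgroup

namespace Cfsg.Agent.Lie.ConstrainedFive

universe u

variable {Y : Type u} [Group Y] [Finite Y] {R : Subgroup Y} {T : Top Y R} {F : Subgroup Y} [F.Normal]

/-- The elements of the quotient with a representative squaring to `x`. -/
def sqSet (R F : Subgroup Y) [F.Normal] (x : Y) : Set (R.map (QuotientGroup.mk' F)) :=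
  {v | ∃ r ∈ R, r * r = x ∧ (QuotientGroup.mk' F r) = v}

omit [Finite Y] in
theorem sq_well_defined (hc : ∀ (y : Y), ∀ f ∈ F, y * f = f * y) (he : ∀ f ∈ F, f * f = 1) {r r' : Y}
    (e : QuotientGroup.mk' F r = QuotientGroup.mk' F r') : r * r = r' * r' := by
  have hf : r⁻¹ * r' ∈ F := QuotientGroup.eq.1 e
  calc r * r = r * r * (r⁻¹ * r' * (r⁻¹ * r')) := by rw [he _ hf, mul_one]
    _ = r * (r * (r⁻¹ * r')) * (r⁻¹ * r') := by simp only [mul_assoc]
    _ = r * ((r⁻¹ * r') * r) * (r⁻¹ * r') := by rw [hc r _ hf]
    _ = r' * r' := by group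

/-- A central four-group cannot lie below a layer. -/
theorem Layer.four_absurd (L : Layer T F) (h4 : Nat.card F = 4)
    (hc : ∀ (y : Y), ∀ f ∈ F, y * f = f * y) (he : ∀ f ∈ F, f * f = 1) : False := by
  classical
  haveI := T.normal
  haveI : Fintype R := Fintype.ofFinite R
  haveI : Fintype F := Fintype.ofFinite F
  set π := QuotientGroup.mk' F with hπ
  haveI : (R.map π).Normal := Normal.map inferInstance _ (QuotientGroup.mk'_surjective F)
  have hR64 : Nat.card R = 64 := by rw [L.card, h4]
  let θ : R →* R.map π := π.subgroupMap R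
  have hθk : Nat.card θ.ker = 4 := by
    have hk : θ.ker = F.subgroupOf R := by
      ext r
      rw [MonoidHom.mem_ker, Subtype.ext_iff, mem_subgroupOf]
      exact QuotientGroup.eq_one_iff _
    rw [hk, Nat.card_congr (subgroupOfEquivOfLe L.le).toEquiv, h4]
  let c : F → ℕ := fun x => Nat.card {r : R | (r : Y) * r = x}
  have hcs : ∀ x : F, c x = 4 * Nat.card (sqSet R F (x : Y)) := by
    intro x
    rw [← hθk, ← card_preimage_hom θ (π.subgroupMap_surjective R) (sqSet R F (x : Y))]
    refine Nat.card_congr (Equiv.setCongr (Set.ext fun r => ⟨fun h => ⟨r, r.2, h, rfl⟩, ?_⟩))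
    rintro ⟨r', -, h, e⟩
    exact (sq_well_defined hc he (e.symm : π (r : Y) = π r')).trans h
  have hsum : ∑ x : F, c x = 64 := by
    have h := Finset.card_eq_sum_card_fiberwise (s := (Finset.univ : Finset R)) (t := (Finset.univ : Finset F))
      (f := fun r : R => (⟨(r : Y) * r, L.sq r r.2⟩ : F)) (fun _ _ => Finset.mem_univ _)
    rw [Finset.card_univ, ← Nat.card_eq_fintype_card, hR64] at h
    rw [h]
    refine Finset.sum_congr rfl fun x _ => ?_
    show Nat.card {r : R | (r : Y) * r = x} = _
    rw [Nat.card_eq_fintype_card, Fintype.card_ofFinset]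
    congr 1
    ext r
    simp [Subtype.ext_iff]
  have h24 : ∀ u : F, u ≠ 1 → c 1 + c u = 24 := by
    intro u hu
    have hu1 : (u : Y) ≠ 1 := fun e => hu (Subtype.ext e)
    have hu2 : (u : Y) * u = 1 := he u u.2
    set W := zpowers (u : Y) with hW
    haveI : W.Normal := ⟨fun a ha y => by
      rw [hc y a (zpowers_le.2 u.2 ha), mul_inv_cancel_right]; exact ha⟩
    have hWF : W ≤ F := zpowers_le.2 u.2
    have hW2 : Nat.card W = 2 := by
      rw [hW, Nat.card_zpowers]; exact orderOf_eq_prime (by rw [pow_two]; exact hu2) hu1
    haveI : (F.map (QuotientGroup.mk' W)).Normal := Normal.map inferInstance _ (QuotientGroup.mk'_surjective W)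
    have hF2 : Nat.card (F.map (QuotientGroup.mk' W)) = 2 := by
      have := card_map_mk hWF
      rw [hW2, h4] at this
      omega
    obtain ⟨-, -, -, -, -, -, h12⟩ := (L.quot hWF).quad hF2
    let θW : R →* R.map (QuotientGroup.mk' W) := (QuotientGroup.mk' W).subgroupMap R
    have hk : Nat.card θW.ker = 2 := by
      have hk : θW.ker = W.subgroupOf R := by
        ext r
        rw [MonoidHom.mem_ker, Subtype.ext_iff, mem_subgroupOf]
        exact QuotientGroup.eq_one_iff _
      rw [hk, Nat.card_congr (subgroupOfEquivOfLe (hWF.trans L.le)).toEquiv, hW2]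
    have h := card_preimage_hom θW ((QuotientGroup.mk' W).subgroupMap_surjective R)
      {r | (r : Y ⧸ W) * r = 1}
    rw [hk, h12] at h
    have e : θW ⁻¹' {r | (r : Y ⧸ W) * r = 1} =
        {r : R | (r : Y) * r = (1 : F)} ∪ {r : R | (r : Y) * r = u} := by
      ext r
      show QuotientGroup.mk' W (r : Y) * QuotientGroup.mk' W r = 1 ↔ _
      rw [← map_mul]
      refine (QuotientGroup.eq_one_iff _).trans ⟨fun hm => ?_, ?_⟩
      · by_cases h1 : (r : Y) * r = 1
        · exact Or.inl (by simpa using h1)
        · exact Or.inr (two_eq hW2 hm (mem_zpowers _) h1 hu1)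
      · rintro (h1 | h1)
        · show (r : Y) * r ∈ W
          rw [show (r : Y) * r = 1 by simpa using h1]; exact W.one_mem
        · show (r : Y) * r ∈ W
          rw [show (r : Y) * r = u from h1]; exact mem_zpowers _
    rw [Nat.card_coe_set_eq, e, Set.ncard_union_eq ?_ (Set.toFinite _) (Set.toFinite _)] at h
    · show Nat.card _ + Nat.card _ = 24
      rw [Nat.card_coe_set_eq, Nat.card_coe_set_eq]
      exact h
    · rw [Set.disjoint_left]
      intro r h1 h2
      exact hu1 (h2.symm.trans (by simpa using h1))
  have hc1 : c 1 = 4 := by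
    rw [← Finset.add_sum_erase Finset.univ c (Finset.mem_univ (1 : F))] at hsum
    rw [Finset.sum_congr rfl (g := fun _ => 24 - c 1) fun x hx => by
      have := h24 x (Finset.ne_of_mem_erase hx); omega] at hsum
    rw [Finset.sum_const, Finset.card_erase_of_mem (Finset.mem_univ _), Finset.card_univ,
      ← Nat.card_eq_fintype_card, h4, smul_eq_mul] at hsum
    obtain ⟨x, hx⟩ : ∃ x : F, x ≠ 1 := by
      haveI : Nontrivial F := Finite.one_lt_card_iff_nontrivial.1 (by omega)
      exact exists_ne 1
    have := h24 x hx
    omega
  -- an element of order three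
  obtain ⟨-, -, -, g, -, -, -, -, -, -, hg, hg3⟩ := T.lifts
  have BV := L.big
  have hgV : π g ∉ R.map π := by
    rintro ⟨r, hr, e⟩
    exact hg (by simpa using mul_mem hr (L.le (QuotientGroup.eq.1 e)))
  have hg3V : π g ^ 3 ∈ R.map π := by rw [← map_pow]; exact mem_map_of_mem _ hg3
  have h4fix : Nat.card (fixIn (R.map π) (π g)) ≤ 4 := BV.three_fix hgV hg3V
  let Fx : F → Set (R.map π) := fun x => {v | v ∈ sqSet R F (x : Y) ∧ v ∈ fixIn (R.map π) (π g)}
  have hlow : ∀ x : F, (if x = 1 then 1 else 2) ≤ Nat.card (Fx x) := by
    intro x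
    have hm := subset_modEq (R.map π) Nat.prime_three (y := π g) (fun w hw => BV.R_cent _ hg3V w hw)
      (sqSet R F (x : Y)) (by
        rintro v ⟨r, hr, hr1, e⟩
        refine ⟨g * r * g⁻¹, Normal.conj_mem inferInstance r hr g, ?_, ?_⟩
        · rw [show g * r * g⁻¹ * (g * r * g⁻¹) = g * (r * r) * g⁻¹ by group, hr1, hc g x x.2,
            mul_inv_cancel_right]
        · rw [map_mul, map_mul, map_inv, e]
          rfl)
    change Nat.card (sqSet R F (x : Y)) ≡ Nat.card (Fx x) [MOD 3] at hm
    unfold Nat.ModEq at hm
    have := hcs x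
    split_ifs with hx
    · subst hx
      omega
    · have := h24 x hx
      omega
  have hle : ∑ x : F, Nat.card (Fx x) ≤ Nat.card (fixIn (R.map π) (π g)) := by
    rw [← Nat.card_sigma]
    refine Nat.card_le_card_of_injective (fun p => (⟨(p.2 : R.map π), p.2.2.2⟩ : fixIn (R.map π) (π g))) ?_
    rintro ⟨x, v, hv⟩ ⟨x', v', hv'⟩ e
    obtain rfl : v = v' := congrArg Subtype.val e
    obtain ⟨r, -, h1, e1⟩ := hv.1
    obtain ⟨r', -, h2, e2⟩ := hv'.1
    obtain rfl : x = x' := Subtype.ext (h1.symm.trans ((sq_well_defined hc he (e1.trans e2.symm)).trans h2))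
    rfl
  have h7 : ∑ x : F, (if x = 1 then 1 else 2) = 7 := by
    rw [← Finset.add_sum_erase Finset.univ _ (Finset.mem_univ (1 : F)), if_pos rfl,
      Finset.sum_congr rfl (g := fun _ => 2) fun x hx => if_neg (Finset.ne_of_mem_erase hx),
      Finset.sum_const, Finset.card_erase_of_mem (Finset.mem_univ _), Finset.card_univ,
      ← Nat.card_eq_fintype_card, h4]
    rfl
  have := (Finset.sum_le_sum fun x (_ : x ∈ Finset.univ) => hlow x)
  omega

/-- Below a layer there are at most two elements. -/
theorem Layer.small : ∀ (n : ℕ) {Y : Type u} [Group Y] [Finite Y] {R : Subgroup Y} {T : Top Y R}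
    {F : Subgroup Y} [F.Normal], Layer T F → Nat.card F = n → Nat.card F ≤ 2 := by
  intro n
  induction n using Nat.strong_induction_on with
  | _ n ih =>
    intro Y _ _ R T F _ L hn
    haveI := T.normal
    by_cases hF : F = ⊥
    · rw [hF, card_bot]; omega
    obtain ⟨W, hWn, hWF, hW1, hWcase⟩ := T.exists_bottom F L.le hF
    haveI := hWn
    set π := QuotientGroup.mk' W with hπ
    haveI : (F.map π).Normal := Normal.map inferInstance _ (QuotientGroup.mk'_surjective W)
    have hm := card_map_mk hWF
    change Nat.card (F.map π) * Nat.card W = Nat.card F at hm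
    have hW2 : 2 ≤ Nat.card W := by
      have h1 : 0 < Nat.card W := Nat.card_pos
      have h2 : Nat.card W ≠ 1 := fun h => hW1 (card_eq_one.1 h)
      omega
    have hbar : Nat.card (F.map π) ≤ 2 := by
      refine ih _ ?_ (L.quot hWF) rfl
      rw [← hn]
      have : 0 < Nat.card (F.map π) := Nat.card_pos
      nlinarith
    rcases Nat.lt_or_ge (Nat.card (F.map π)) 2 with h1 | h2
    · -- the quotient is trivial
      have hb1 : Nat.card (F.map π) = 1 := by
        have : 0 < Nat.card (F.map π) := Nat.card_pos
        omega
      rw [hb1, one_mul] at hm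
      obtain rfl : W = F := eq_of_le_of_card_ge hWF hm.ge
      rcases hWcase with h | h
      · omega
      · haveI : (R.map π).Normal := Normal.map inferInstance _ (QuotientGroup.mk'_surjective W)
        exact (no_layer T W L.le h L.big).elim
    · have hb2 : Nat.card (F.map π) = 2 := by omega
      have hsame : ∀ (y : Y), ∀ x ∈ F, x⁻¹ * (y * x * y⁻¹) ∈ W := fun y x hx =>
        QuotientGroup.eq.1 (show π x = π (y * x * y⁻¹) by
          rw [map_mul, map_mul, map_inv, central_of_card_two hb2 (mem_map_of_mem π hx),
            mul_inv_cancel_right])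
      have hxx : ∀ x ∈ F, x * x ∈ W := fun x hx => (QuotientGroup.eq_one_iff _).1 (by
        show π (x * x) = 1
        rw [map_mul]
        by_cases hp : π x = 1
        · rw [hp, one_mul]
        · by_contra h
          exact hp (mul_eq_left.1 (two_eq hb2 (mul_mem (mem_map_of_mem π hx) (mem_map_of_mem π hx))
            (mem_map_of_mem π hx) h hp)))
      exfalso
      rcases hWcase with hWtwo | B
      · rw [hb2, hWtwo] at hm
        -- a subgroup of order four
        have hWc : ∀ (y : Y), ∀ w ∈ W, y * w = w * y := fun y w hw => central_of_card_two hWtwo hw y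
        obtain ⟨m, hmF, hmW⟩ : ∃ m ∈ F, m ∉ W := by
          by_contra h
          push Not at h
          have := card_dvd_of_le (show F ≤ W from h)
          have := Nat.le_of_dvd Nat.card_pos this
          omega
        have hgen : ∀ x ∈ F, x ∈ W ∨ m⁻¹ * x ∈ W := by
          intro x hx
          by_cases h : x ∈ W
          · exact Or.inl h
          · refine Or.inr (QuotientGroup.eq.1 (show π m = π x from ?_))
            exact two_eq hb2 (mem_map_of_mem π hmF) (mem_map_of_mem π hx)
              (fun e => hmW ((QuotientGroup.eq_one_iff m).1 e)) (fun e => h ((QuotientGroup.eq_one_iff x).1 e))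
        have hdetect : ∀ y : Y, y * m = m * y → ∀ x ∈ F, y * x = x * y := by
          intro y hy x hx
          rcases hgen x hx with h | h
          · exact hWc y x h
          · have h1 : Commute y (m⁻¹ * x) := hWc y _ h
            have h2 := (show Commute y m from hy).mul_right h1
            rw [mul_inv_cancel_left] at h2
            exact h2.eq
        have hRF : ∀ r ∈ R, r * m = m * r := by
          by_contra h
          push Not at h
          obtain ⟨r0, hr0, hr0m⟩ := h
          set C := R ⊓ centralizer (F : Set Y) with hC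
          have hCmem : ∀ r ∈ R, r * m = m * r → r ∈ C := fun r hr e =>
            ⟨hr, fun x hx => (hdetect r e x hx).symm⟩
          set σ := QuotientGroup.mk' F
          haveI : (R.map σ).Normal := Normal.map inferInstance _ (QuotientGroup.mk'_surjective F)
          haveI : (C.map σ).Normal := Normal.map inferInstance _ (QuotientGroup.mk'_surjective F)
          rcases L.big.irred (map_mono (inf_le_left : C ≤ R) : C.map σ ≤ R.map σ) with hb | hb
          · have hsub : (R.map σ : Set (Y ⧸ F)) ⊆ {1, σ r0} := by
              rintro _ ⟨r, hr, rfl⟩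
              by_cases e : r * m = m * r
              · exact Or.inl (mem_bot.1 (hb ▸ mem_map_of_mem σ (hCmem r hr e)))
              · refine Or.inr ?_
                have key : ∀ u : Y, u * m ≠ m * u → m⁻¹ * (u * m * u⁻¹) ≠ 1 := fun u hu h =>
                  hu (mul_inv_eq_iff_eq_mul.1 (inv_mul_eq_one.1 h).symm)
                have e1 : r * m * r⁻¹ = r0 * m * r0⁻¹ := mul_left_cancel
                  (two_eq hWtwo (hsame r m hmF) (hsame r0 m hmF) (key r e) (key r0 hr0m))
                have e2 : (r0⁻¹ * r) * m = m * (r0⁻¹ * r) := by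
                  calc r0⁻¹ * r * m = r0⁻¹ * (r * m * r⁻¹) * r := by group
                    _ = r0⁻¹ * (r0 * m * r0⁻¹) * r := by rw [e1]
                    _ = m * (r0⁻¹ * r) := by group
                have := mem_bot.1 (hb ▸ mem_map_of_mem σ (hCmem _ (mul_mem (inv_mem hr0) hr) e2))
                rw [map_mul, map_inv, inv_mul_eq_one] at this
                exact this.symm
            have h3 := (Set.ncard_le_ncard hsub (Set.toFinite _)).trans
              ((Set.ncard_insert_le _ _).trans (by simp : _ ≤ 2))
            have h5 : Nat.card (R.map σ) = 16 := L.big.card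
            rw [← SetLike.coe_sort_coe, Nat.card_coe_set_eq] at h5
            omega
          · obtain ⟨c, hc, e⟩ : σ r0 ∈ C.map σ := hb ▸ mem_map_of_mem σ hr0
            have hf : c⁻¹ * r0 ∈ F := QuotientGroup.eq.1 e
            have h1 : Commute c m := (hc.2 m hmF).symm
            have h2 : Commute (c⁻¹ * r0) m := by
              rcases hgen _ hf with h | h
              · exact (hWc m _ h).symm
              · have := (Commute.refl m).mul_right (hWc m _ h : Commute m _)
                rw [mul_inv_cancel_left] at this
                exact this.symm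
            have h3 := h1.mul_left h2
            rw [mul_inv_cancel_left] at h3
            exact hr0m h3.eq
        have hFp : IsPGroup 2 F := T.twoGroup.to_le L.le
        have hFc := T.small_central F hFp (fun r hr w hw => hdetect r (hRF r hr) w hw) (by omega)
        by_cases hsq : ∀ f ∈ F, f * f = 1
        · exact L.four_absurd (by omega) hFc hsq
        · push Not at hsq
          obtain ⟨x, hx, hx2⟩ := hsq
          have hinv : ∀ c ∈ F, c * c = 1 → c ∈ W := by
            intro c hc hcc
            by_contra hcW
            have hxW : x ∉ W := fun h => hx2 (by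
              by_cases hx1 : x = 1
              · simp [hx1]
              · by_contra h2
                exact hx1 (mul_eq_left.1 (two_eq hWtwo (mul_mem h h) h h2 hx1)))
            have hcx : c⁻¹ * x ∈ W := QuotientGroup.eq.1 (show π c = π x from
              two_eq hb2 (mem_map_of_mem π hc) (mem_map_of_mem π hx)
                (fun e => hcW ((QuotientGroup.eq_one_iff c).1 e)) (fun e => hxW ((QuotientGroup.eq_one_iff x).1 e)))
            refine hx2 ?_
            have h1 : (c⁻¹ * x) * (c⁻¹ * x) = 1 := by
              by_contra h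
              by_cases h0 : c⁻¹ * x = 1
              · exact h (by rw [h0, one_mul])
              · exact h0 (mul_eq_left.1 (two_eq hWtwo (mul_mem hcx hcx) hcx h h0))
            calc x * x = c * (c⁻¹ * x) * (c * (c⁻¹ * x)) := by rw [mul_inv_cancel_left]
              _ = c * ((c⁻¹ * x) * c) * (c⁻¹ * x) := by simp only [mul_assoc]
              _ = c * (c * (c⁻¹ * x)) * (c⁻¹ * x) := by rw [hWc c _ hcx]
              _ = c * c * ((c⁻¹ * x) * (c⁻¹ * x)) := by simp only [mul_assoc]
              _ = 1 := by rw [hcc, h1, one_mul]
          obtain ⟨z, -, -, -, h32, hcen, -⟩ := (L.quot hWF).quad hb2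
          have hab : ∀ a ∈ R.map π, ∀ b ∈ R.map π, a * b = b * a := by
            rintro _ ⟨a, ha, rfl⟩ _ ⟨b, hb, rfl⟩
            set c := b⁻¹ * (a * b * a⁻¹) with hcdef
            have hcF : c ∈ F := QuotientGroup.eq.1 (by
              show QuotientGroup.mk' F b = QuotientGroup.mk' F (a * b * a⁻¹)
              obtain ⟨-, hcomm⟩ := map_sq_comm (R := R) L.sq
              rw [map_mul, map_mul, map_inv, hcomm _ (mem_map_of_mem _ ha) _ (mem_map_of_mem _ hb),
                mul_inv_cancel_right])
            have hcc : c * c = 1 := by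
              have e1 : a * b * a⁻¹ = b * c := by rw [hcdef, mul_inv_cancel_left]
              have e2 : b * b * (c * c) = b * b * 1 := by
                calc b * b * (c * c) = b * (b * c) * c := by simp only [mul_assoc]
                  _ = b * (c * b) * c := by rw [hFc b c hcF]
                  _ = a * b * a⁻¹ * (a * b * a⁻¹) := by rw [e1]; simp only [mul_assoc]
                  _ = a * (b * b) * a⁻¹ := by group
                  _ = b * b * 1 := by rw [hFc a _ (L.sq b hb), mul_inv_cancel_right, mul_one]
              exact mul_left_cancel e2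
            have h1 : π b = π (a * b * a⁻¹) := QuotientGroup.eq.2 (hinv c hcF hcc)
            rw [map_mul, map_mul, map_inv, eq_mul_inv_iff_mul_eq] at h1
            exact h1.symm
          have hsub : ((R.map π : Subgroup (Y ⧸ W)) : Set (Y ⧸ W)) ⊆ {1, z} :=
            fun a ha => hcen a ha fun b hb => hab a ha b hb
          have h3 := (Set.ncard_le_ncard hsub (Set.toFinite _)).trans
            ((Set.ncard_insert_le _ _).trans (by simp : _ ≤ 2))
          have h5 : Nat.card (R.map π) = ((R.map π : Subgroup (Y ⧸ W)) : Set (Y ⧸ W)).ncard :=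
            Nat.card_coe_set_eq _
          change Nat.card (R.map π) = 32 at h32
          omega
      · -- a big bottom layer under a layer of order two
        rw [hb2, B.card] at hm
        have hexp : ∀ x ∈ F, x * x = 1 := by
          intro x hx
          refine B.fixed (hxx x hx) fun y => ?_
          set w := x⁻¹ * (y * x * y⁻¹) with hwdef
          have hw : w ∈ W := hsame y x hx
          have e1 : y * x * y⁻¹ = x * w := by rw [hwdef, mul_inv_cancel_left]
          refine mul_inv_eq_iff_eq_mul.1 ?_
          calc y * (x * x) * y⁻¹ = y * x * y⁻¹ * (y * x * y⁻¹) := by group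
            _ = x * w * (x * w) := by rw [e1]
            _ = x * (w * x) * w := by simp only [mul_assoc]
            _ = x * (x * w) * w := by rw [B.R_cent x (L.le hx) w hw]
            _ = x * x * (w * w) := by simp only [mul_assoc]
            _ = x * x := by rw [B.exp w hw, mul_one]
        have := T.subgroup_le F hexp
        omega

/-- The possible cores: the subgroup containing the squares and acted on faithfully has order at most two. -/
theorem Top.core_cases (T : Top Y R) (F : Subgroup Y) [F.Normal] (hle : F ≤ R) (hsq : ∀ r ∈ R, r * r ∈ F)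
    (hf : ∀ y : Y, (∀ r ∈ R, y * r * y⁻¹ * r⁻¹ ∈ F) → y ∈ R) :
    (Nat.card R = 16 ∧ ∀ r ∈ R, r * r = 1) ∨
      (Nat.card R = 32 ∧ ∃ z : R, SmallDerived R z ∧ Nat.card {r : R | r * r = 1} = 12) := by
  have L : Layer T F := Layer.of_faithful hle hsq hf
  have h2 := Layer.small _ L rfl
  rcases Nat.lt_or_ge (Nat.card F) 2 with h | h
  · left
    have h1 : Nat.card F = 1 := by
      have : 0 < Nat.card F := Nat.card_pos
      omega
    refine ⟨by rw [L.card, h1], fun r hr => ?_⟩
    have := hsq r hr
    rwa [card_eq_one.1 h1, mem_bot] at this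
  · right
    obtain ⟨z, C, -, hz, h32, hcen, h12⟩ := L.quad (by omega)
    refine ⟨h32, ⟨z, C.mem⟩, ⟨fun e => C.ne (congrArg Subtype.val e), Subtype.ext C.sq,
      fun r => Subtype.ext (hz r), fun r => ?_, fun a b => ?_, fun r hr => ?_⟩, ?_⟩
    · exact (C.squares r r.2).imp (fun e => Subtype.ext e) fun e => Subtype.ext e
    · exact (C.comm a a.2 b b.2).imp (fun e => Subtype.ext e) fun e => Subtype.ext e
    · exact (hcen r r.2 fun a ha => congrArg Subtype.val (hr ⟨a, ha⟩)).imp
        (fun e => Subtype.ext e) fun e => Subtype.ext e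
    · rw [← h12]
      exact Nat.card_congr (Equiv.setCongr (Set.ext fun r =>
        ⟨fun e => congrArg Subtype.val e, fun e => Subtype.ext e⟩))

end Cfsg.Agent.Lie.ConstrainedFive
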