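import Mathlib
import Cfsg.Agent.Lib.Perm.SectionalTwo

/-!
# Small sections under an alternating group of degree five

A normal subgroup `W` of exponent two centralized by the kernel of a surjection onto the alternating
group of degree five: of order at most eight it is central, of order sixteen and not central an element
of order five fixes only the identity and an involution fixes exactly four elements.
-/

set_option autoImplicit false
set_option linter.style.haveILetI false

open Subgroup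

namespace Cfsg.Agent.Lie.ConstrainedFive

universe u

abbrev A5 : Type := ↥(alternatingGroup (Fin 5))

/-- A normal 2-subgroup with quotient the alternating group of degree five. -/
structure Top (Y : Type u) [Group Y] (R : Subgroup Y) where
  f : Y →* A5
  surj : Function.Surjective f
  ker : f.ker = R
  twoGroup : IsPGroup 2 R
  rank : Cfsg.SectionalPRankLE 2 4 Y

variable {Y : Type u} [Group Y] [Finite Y] {R : Subgroup Y}

theorem Top.normal (T : Top Y R) : R.Normal := T.ker ▸ inferInstance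

theorem Top.mem (T : Top Y R) {y : Y} : y ∈ R ↔ T.f y = 1 :=
  (SetLike.ext_iff.1 T.ker y).symm

/-- The action on a normal subgroup is trivial or faithful modulo `R`. -/
theorem Top.central_or_faithful (T : Top Y R) (W : Subgroup Y) [W.Normal]
    (hRW : ∀ r ∈ R, ∀ w ∈ W, r * w = w * r) :
    (∀ (y : Y), ∀ w ∈ W, y * w = w * y) ∨ ∀ y : Y, (∀ w ∈ W, y * w = w * y) → y ∈ R := by
  haveI := alternatingGroup.isSimpleGroup_five
  set K := centralizer (W : Set Y) with hK
  haveI : K.Normal := inferInstance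
  have hmemK : ∀ y, y ∈ K ↔ ∀ w ∈ W, y * w = w * y := fun y =>
    ⟨fun h w hw => (h w hw).symm, fun h w hw => (h w hw).symm⟩
  haveI : (K.map T.f).Normal := Normal.map inferInstance _ T.surj
  rcases IsSimpleGroup.eq_bot_or_eq_top_of_normal (K.map T.f) inferInstance with h | h
  · exact Or.inr fun y hy => T.mem.2 (mem_bot.1 (h ▸ mem_map_of_mem T.f ((hmemK y).2 hy)))
  · refine Or.inl fun y => (hmemK y).1 ?_
    obtain ⟨k, hk, hky⟩ : T.f y ∈ K.map T.f := h ▸ mem_top _
    have hR : k⁻¹ * y ∈ R := T.mem.2 (by rw [map_mul, map_inv, hky, inv_mul_cancel])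
    have := mul_mem hk ((hmemK _).2 (hRW _ hR))
    rwa [mul_inv_cancel_left] at this

/-- A lift of an element of order five, a product of two lifts of involutions, and a lift of an element of
order three. -/
theorem Top.lifts (T : Top Y R) : ∃ s t t' g : Y, T.f s ≠ 1 ∧ s ^ 5 ∈ R ∧ t * t ∈ R ∧ t' * t' ∈ R ∧
    s = t * t' ∧ t ∉ R ∧ g ∉ R ∧ g ^ 3 ∈ R := by
  let s5 : A5 := ⟨finRotate 5, Equiv.Perm.mem_alternatingGroup.2 (by decide +kernel)⟩
  let t5 : A5 := ⟨Equiv.swap 1 4 * Equiv.swap 2 3, Equiv.Perm.mem_alternatingGroup.2 (by decide +kernel)⟩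
  let g5 : A5 := ⟨Equiv.swap 0 1 * Equiv.swap 1 2, Equiv.Perm.mem_alternatingGroup.2 (by decide +kernel)⟩
  obtain ⟨t, ht⟩ := T.surj t5
  obtain ⟨t', ht'⟩ := T.surj (t5 * s5)
  obtain ⟨g, hg⟩ := T.surj g5
  refine ⟨t * t', t, t', g, ?_, ?_, ?_, ?_, rfl, ?_, ?_, ?_⟩
  · rw [map_mul, ht, ht']; decide +kernel
  · rw [T.mem, map_pow, map_mul, ht, ht']; decide +kernel
  · rw [T.mem, map_mul, ht]; decide +kernel
  · rw [T.mem, map_mul, ht']; decide +kernel
  · rw [T.mem, ht]; decide +kernel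
  · rw [T.mem, hg]; decide +kernel
  · rw [T.mem, map_pow, hg]; decide +kernel

section Fix

variable (W : Subgroup Y) [W.Normal]

/-- The elements of `W` fixed by `y`. -/
def fixIn (y : Y) : Subgroup W where
  carrier := {w | y * (w : Y) = w * y}
  one_mem' := by simp
  mul_mem' := fun {a b} ha hb => by
    show y * ((a : Y) * b) = (a : Y) * b * y
    rw [← mul_assoc, ha, mul_assoc, hb, ← mul_assoc]
  inv_mem' := fun {a} ha => by
    show y * (a : Y)⁻¹ = (a : Y)⁻¹ * y
    exact (Commute.inv_right (show Commute y (a : Y) from ha)).eq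

theorem mem_fixIn {y : Y} {w : W} : w ∈ fixIn W y ↔ y * (w : Y) = w * y := Iff.rfl

/-- Orbit counting for an element of prime order modulo the centralizer. -/
theorem fixIn_modEq {p : ℕ} (hp : p.Prime) {y : Y} (hy : ∀ w ∈ W, y ^ p * w = w * y ^ p) :
    Nat.card W ≡ Nat.card (fixIn W y) [MOD p] := by
  haveI := Fact.mk hp
  let φ : MulAut W := MulAut.conjNormal y
  have hφ : φ ^ p = 1 := by
    rw [← map_pow]
    refine MulEquiv.ext fun w => Subtype.ext ?_
    show y ^ p * (w : Y) * (y ^ p)⁻¹ = w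
    rw [hy w w.2, mul_inv_cancel_right]
  have hP : IsPGroup p (zpowers φ) := by
    obtain ⟨m, -, hm⟩ := (Nat.dvd_prime_pow hp).1
      (show orderOf φ ∣ p ^ 1 by rw [pow_one]; exact orderOf_dvd_of_pow_eq_one hφ)
    exact IsPGroup.of_card (n := m) (by rw [Nat.card_zpowers, hm])
  letI : MulAction (zpowers φ) W := MulAction.compHom W (zpowers φ).subtype
  have h := hP.card_modEq_card_fixedPoints W
  have e : MulAction.fixedPoints (zpowers φ) W = {w : W | w ∈ fixIn W y} := by
    ext w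
    rw [MulAction.mem_fixedPoints]
    constructor
    · intro h
      have h1 : φ w = w := h ⟨φ, mem_zpowers φ⟩
      exact mul_inv_eq_iff_eq_mul.1 (congrArg Subtype.val h1)
    · rintro h ⟨_, k, rfl⟩
      show (φ ^ k) w = w
      have hφw : φ ∈ MulAction.stabilizer (MulAut W) w := Subtype.ext (mul_inv_eq_iff_eq_mul.2 h)
      exact zpow_mem hφw k
  rw [e, Nat.card_coe_set_eq] at h
  rw [← Nat.card_coe_set_eq] at h
  exact h

/-- Orbit counting on an invariant subset. -/
theorem subset_modEq {p : ℕ} (hp : p.Prime) {y : Y} (hy : ∀ w ∈ W, y ^ p * w = w * y ^ p) (s : Set W)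
    (hs : ∀ w ∈ s, (MulAut.conjNormal y : MulAut W) w ∈ s) :
    Nat.card s ≡ Nat.card {w : W | w ∈ s ∧ w ∈ fixIn W y} [MOD p] := by
  haveI := Fact.mk hp
  let φ : MulAut W := MulAut.conjNormal y
  have hφ : φ ^ p = 1 := by
    rw [← map_pow]
    refine MulEquiv.ext fun w => Subtype.ext ?_
    show y ^ p * (w : Y) * (y ^ p)⁻¹ = w
    rw [hy w w.2, mul_inv_cancel_right]
  have hP : IsPGroup p (zpowers φ) := by
    obtain ⟨m, -, hm⟩ := (Nat.dvd_prime_pow hp).1
      (show orderOf φ ∣ p ^ 1 by rw [pow_one]; exact orderOf_dvd_of_pow_eq_one hφ)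
    exact IsPGroup.of_card (n := m) (by rw [Nat.card_zpowers, hm])
  have hinv : ∀ (τ : zpowers φ) (w : W), w ∈ s → (τ : MulAut W) w ∈ s := by
    intro τ w hw
    obtain ⟨n, hn⟩ := mem_powers_iff_mem_zpowers.2 τ.2
    change φ ^ n = (τ : MulAut W) at hn
    rw [← hn]
    clear hn
    induction n with
    | zero => rw [pow_zero]; exact hw
    | succ n ih => rw [pow_succ', MulAut.mul_apply]; exact hs _ ih
  letI : MulAction (zpowers φ) s :=
    { smul := fun τ w => ⟨(τ : MulAut W) w, hinv τ w w.2⟩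
      one_smul := fun _ => Subtype.ext rfl
      mul_smul := fun _ _ _ => Subtype.ext rfl }
  have h := hP.card_modEq_card_fixedPoints s
  have e : MulAction.fixedPoints (zpowers φ) s = {w : s | (w : W) ∈ fixIn W y} := by
    ext w
    rw [MulAction.mem_fixedPoints]
    constructor
    · intro h
      have h1 : φ w = w := congrArg Subtype.val (h ⟨φ, mem_zpowers φ⟩)
      exact mul_inv_eq_iff_eq_mul.1 (congrArg Subtype.val h1)
    · rintro h ⟨_, k, rfl⟩
      refine Subtype.ext ?_
      show (φ ^ k) (w : W) = w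
      have hφw : φ ∈ MulAction.stabilizer (MulAut W) (w : W) := Subtype.ext (mul_inv_eq_iff_eq_mul.2 h)
      exact zpow_mem hφw k
  rw [e] at h
  exact h.trans (congrArg (· % p) (Nat.card_congr (show {w : s | (w : W) ∈ fixIn W y} ≃ {w : W | w ∈ s ∧ w ∈ fixIn W y} from
    Equiv.subtypeSubtypeEquivSubtypeInter (fun w => w ∈ s) (fun w => w ∈ fixIn W y))))

theorem card_fixIn_dvd (y : Y) : Nat.card (fixIn W y) ∣ Nat.card W := card_subgroup_dvd_card _

theorem fixIn_eq_top {y : Y} (h : Nat.card (fixIn W y) = Nat.card W) : ∀ w ∈ W, y * w = w * y :=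
  fun w hw => (mem_fixIn W).1
    (show (⟨w, hw⟩ : W) ∈ fixIn W y by rw [Subgroup.eq_top_of_card_eq _ h]; exact mem_top _)

end Fix

/-- A normal 2-subgroup of order at most eight centralized by `R` is central. -/
theorem Top.small_central (T : Top Y R) (W : Subgroup Y) [W.Normal] (hW : IsPGroup 2 W)
    (hRW : ∀ r ∈ R, ∀ w ∈ W, r * w = w * r) (hcard : Nat.card W ≤ 8) :
    ∀ (y : Y), ∀ w ∈ W, y * w = w * y := by
  refine (T.central_or_faithful W hRW).resolve_right fun hf => ?_
  obtain ⟨s, -, -, -, hs1, hs5, -, -, -, -, -, -⟩ := T.lifts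
  refine hs1 (T.mem.1 (hf s (fixIn_eq_top W ?_)))
  have h := fixIn_modEq W Nat.prime_five (y := s) fun w hw => hRW _ hs5 w hw
  obtain ⟨k, hk⟩ := IsPGroup.iff_card.1 hW
  obtain ⟨j, hjk, hj⟩ := (Nat.dvd_prime_pow Nat.prime_two).1 (hk ▸ card_fixIn_dvd W s)
  have hk3 : k ≤ 3 := by
    by_contra hlt
    have : 2 ^ 4 ≤ 2 ^ k := Nat.pow_le_pow_right two_pos (by omega)
    omega
  rw [hk, hj] at h ⊢
  interval_cases k <;> interval_cases j <;> simp_all [Nat.ModEq]

/-- A noncentral section of order sixteen. -/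
structure Big (T : Top Y R) (W : Subgroup Y) [W.Normal] : Prop where
  card : Nat.card W = 16
  exp : ∀ w ∈ W, w * w = 1
  comm : ∀ a ∈ W, ∀ b ∈ W, a * b = b * a
  R_cent : ∀ r ∈ R, ∀ w ∈ W, r * w = w * r
  faithful : ∀ y : Y, (∀ w ∈ W, y * w = w * y) → y ∈ R

variable {T : Top Y R} {W : Subgroup Y} [W.Normal]

theorem Big.five_free (B : Big T W) {s : Y} (hs : T.f s ≠ 1) (hs5 : s ^ 5 ∈ R) {w : Y} (hw : w ∈ W)
    (hsw : s * w = w * s) : w = 1 := by
  have h := fixIn_modEq W Nat.prime_five (y := s) fun w hw => B.R_cent _ hs5 w hw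
  have hd := card_fixIn_dvd W s
  rw [B.card] at h hd
  obtain ⟨j, hj4, hj⟩ := (Nat.dvd_prime_pow Nat.prime_two).1 (show _ ∣ 2 ^ 4 from hd)
  rw [hj] at h
  have h1 : Nat.card (fixIn W s) = 1 := by
    rw [hj]
    interval_cases j <;> simp_all [Nat.ModEq]
    exact hs (T.mem.1 (B.faithful s (fixIn_eq_top W (by rw [hj, B.card]))))
  have hm : (⟨w, hw⟩ : W) ∈ fixIn W s := hsw
  rw [Subgroup.card_eq_one.1 h1, mem_bot] at hm
  exact congrArg Subtype.val hm

/-- An element of order three fixes one or four elements. -/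
theorem Big.three_fix (B : Big T W) {g : Y} (hg : g ∉ R) (hg3 : g ^ 3 ∈ R) :
    Nat.card (fixIn W g) ≤ 4 := by
  have h := fixIn_modEq W Nat.prime_three (y := g) fun w hw => B.R_cent _ hg3 w hw
  have hd := card_fixIn_dvd W g
  rw [B.card] at h hd
  obtain ⟨j, hj4, hj⟩ := (Nat.dvd_prime_pow Nat.prime_two).1 (show _ ∣ 2 ^ 4 from hd)
  rw [hj] at h ⊢
  interval_cases j <;> simp_all [Nat.ModEq]
  exact hg (B.faithful g (fixIn_eq_top W (by rw [hj, B.card])))

/-- An involution fixes exactly the four elements it moves by. -/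
theorem Big.involution (B : Big T W) {t t' : Y} (ht : t * t ∈ R) (ht' : t' * t' ∈ R)
    (hs : T.f (t * t') ≠ 1) (hs5 : (t * t') ^ 5 ∈ R) :
    Nat.card (fixIn W t) = 4 ∧
      ∀ c ∈ W, t * c = c * t → ∃ v ∈ W, c = v * (t * v * t⁻¹) := by
  letI : CommGroup W :=
    { (inferInstance : Group W) with mul_comm := fun a b => Subtype.ext (B.comm a a.2 b b.2) }
  let δ : Y → (W →* W) := fun y => MonoidHom.id W * (MulAut.conjNormal y : MulAut W).toMonoidHom
  have hδ : ∀ y (w : W), ((δ y w : W) : Y) = (w : Y) * (y * w * y⁻¹) := fun y w => rfl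
  have hker : ∀ y, (δ y).ker = fixIn W y := fun y => by
    ext w
    rw [MonoidHom.mem_ker, mem_fixIn, Subtype.ext_iff, hδ, OneMemClass.coe_one,
      mul_eq_one_iff_eq_inv, eq_inv_iff_mul_eq_one]
    constructor
    · intro h
      have e : y * (w : Y) * y⁻¹ = w := by
        rw [← one_mul (y * (w : Y) * y⁻¹), ← B.exp w w.2, mul_assoc, h, mul_one]
      exact mul_inv_eq_iff_eq_mul.1 e
    · intro h
      rw [h, mul_inv_cancel_right, B.exp w w.2]
  have hle : ∀ y, y * y ∈ R → (δ y).range ≤ fixIn W y := fun y hy => by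
    rintro _ ⟨w, rfl⟩
    rw [mem_fixIn, hδ]
    have e : y * (y * (w : Y) * y⁻¹) * y⁻¹ = w := by
      rw [show y * (y * (w : Y) * y⁻¹) * y⁻¹ = y * y * w * (y * y)⁻¹ by group, B.R_cent _ hy w w.2,
        mul_inv_cancel_right]
    have hm : y * (w : Y) * y⁻¹ ∈ W := Normal.conj_mem inferInstance _ w.2 y
    calc y * ((w : Y) * (y * w * y⁻¹)) = y * (w : Y) * y⁻¹ * (y * (y * w * y⁻¹) * y⁻¹) * y := by group
      _ = (w : Y) * (y * w * y⁻¹) * y := by rw [e, B.comm _ hm _ w.2]
  have hsq : ∀ y, y * y ∈ R → 4 ≤ Nat.card (fixIn W y) := fun y hy => by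
    have h1 : Nat.card (δ y).ker * Nat.card (δ y).range = 16 := by
      rw [← Subgroup.index_ker, Subgroup.card_mul_index, B.card]
    have h2 := Nat.le_of_dvd Nat.card_pos (card_dvd_of_le (hle y hy))
    rw [hker] at h1
    nlinarith
  have hprod : Nat.card (fixIn W t) * Nat.card (fixIn W t') ≤ 16 := by
    rw [← B.card, ← Nat.card_prod]
    refine Nat.card_le_card_of_injective (fun p => (p.1 : W) * p.2) fun p q e => ?_
    change (p.1 : W) * p.2 = q.1 * q.2 at e
    have hm : (q.1 : W)⁻¹ * p.1 = (q.2 : W) * (p.2 : W)⁻¹ := by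
      rw [inv_mul_eq_iff_eq_mul, ← mul_assoc, ← e, mul_inv_cancel_right]
    have h1 : (q.1 : W)⁻¹ * p.1 ∈ fixIn W t := mul_mem (inv_mem q.1.2) p.1.2
    have h2 : (q.1 : W)⁻¹ * p.1 ∈ fixIn W t' := hm ▸ mul_mem q.2.2 (inv_mem p.2.2)
    have h3 : (q.1 : W)⁻¹ * p.1 = 1 := Subtype.ext (B.five_free hs hs5 ((q.1 : W)⁻¹ * p.1).2 (by
      rw [mem_fixIn] at h1 h2
      rw [mul_assoc, h2, ← mul_assoc, h1, mul_assoc]))
    refine Prod.ext (Subtype.ext ?_) (Subtype.ext ?_)
    · exact (inv_mul_eq_one.1 h3).symm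
    · rw [h3] at hm
      exact (eq_of_mul_inv_eq_one hm.symm).symm
  have h4 := hsq t ht
  have h4' := hsq t' ht'
  have hc : Nat.card (fixIn W t) = 4 := by nlinarith
  refine ⟨hc, fun c hc' htc => ?_⟩
  have h1 : Nat.card (δ t).ker * Nat.card (δ t).range = 16 := by
    rw [← Subgroup.index_ker, Subgroup.card_mul_index, B.card]
  rw [hker, hc] at h1
  have heq : (δ t).range = fixIn W t := eq_of_le_of_card_ge (hle t ht) (by omega)
  obtain ⟨v, hv⟩ : (⟨c, hc'⟩ : W) ∈ (δ t).range := by rw [heq]; exact htc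
  exact ⟨v, v.2, (congrArg Subtype.val hv).symm.trans (hδ t v)⟩

/-- An element fixed by everything is trivial. -/
theorem Big.fixed (B : Big T W) {w : Y} (hw : w ∈ W) (h : ∀ y : Y, y * w = w * y) : w = 1 := by
  obtain ⟨s, -, -, -, hs1, hs5, -, -, -, -, -, -⟩ := T.lifts
  exact B.five_free hs1 hs5 hw (h s)

/-- A noncentral section of order sixteen is irreducible. -/
theorem Big.irred (B : Big T W) {V : Subgroup Y} [V.Normal] (hV : V ≤ W) : V = ⊥ ∨ V = W := by
  have hVd : Nat.card V ∣ 2 ^ 4 := (card_dvd_of_le hV).trans (by rw [B.card]; norm_num)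
  obtain ⟨j, hj4, hj⟩ := (Nat.dvd_prime_pow Nat.prime_two).1 hVd
  rcases Nat.lt_or_ge j 4 with h | h
  · left
    have hc := T.small_central V (IsPGroup.of_card hj) (fun r hr w hw => B.R_cent r hr w (hV hw))
      (by rw [hj]; calc 2 ^ j ≤ 2 ^ 3 := Nat.pow_le_pow_right two_pos (by omega)
                    _ = 8 := by norm_num)
    exact (eq_bot_iff_forall _).2 fun w hw => B.fixed (hV hw) fun y => hc y w hw
  · right
    refine eq_of_le_of_card_ge hV ?_
    rw [B.card, hj, show j = 4 by omega]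
    norm_num

end Cfsg.Agent.Lie.ConstrainedFive
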