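import Cfsg.Agent.Lib.Lie.ConstrainedFive.Layer

/-!
# The quadratic form of a core with squares in a subgroup of order two

The squares of the core give a nondegenerate form; a Gauss sum and the element of order five show that
exactly twelve of the thirty-two elements square to the identity.
-/

set_option autoImplicit false
set_option linter.style.haveILetI false

open Subgroup

namespace Cfsg.Agent.Lie.ConstrainedFive

universe u

/-- The sign of the square of `a`. -/
noncomputable def sqSign {Y : Type u} [Group Y] (a : Y) : ℤ := by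
  classical exact if a * a = 1 then 1 else -1

/-- The sign of the commutator of `a` and `b`. -/
noncomputable def comSign {Y : Type u} [Group Y] (a b : Y) : ℤ := by
  classical exact if b * a = a * b then 1 else -1

variable {Y : Type u} [Group Y] [Finite Y] {R : Subgroup Y}

/-- The squares and commutators in the core lie in `{1, z}`. -/
structure QuadCore (R : Subgroup Y) (z : Y) : Prop where
  mem : z ∈ R
  ne : z ≠ 1
  sq : z * z = 1
  central : ∀ r ∈ R, r * z = z * r
  squares : ∀ r ∈ R, r * r = 1 ∨ r * r = z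
  comm : ∀ a ∈ R, ∀ b ∈ R, b * a = a * b ∨ b * a = a * b * z

variable {z : Y}

theorem QuadCore.sqSign_mul (C : QuadCore R z) {r u : Y} (hr : r ∈ R) (hu : u ∈ R) :
    sqSign r * sqSign (r * u) = comSign r u * sqSign u := by
  have hsplit : r * u * (r * u) = r * (u * r) * u := by group
  rcases C.comm r hr u hu with hc | hc
  · have e : r * u * (r * u) = r * r * (u * u) := by rw [hsplit, hc]; group
    unfold sqSign comSign
    rw [if_pos hc, e]
    rcases C.squares r hr with h1 | h1 <;> rcases C.squares u hu with h2 | h2 <;>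
      simp [h1, h2, C.ne, C.sq]
  · have e : r * u * (r * u) = r * r * (u * u) * z := by
      rw [hsplit, hc]
      calc r * (r * u * z) * u = r * r * (u * (z * u)) := by group
        _ = r * r * (u * (u * z)) := by rw [C.central u hu]
        _ = r * r * (u * u) * z := by group
    have hne : u * r ≠ r * u := fun h => C.ne (mul_left_cancel (a := r * u) (by rw [mul_one, ← hc, h]))
    unfold sqSign comSign
    rw [if_neg hne, e]
    rcases C.squares r hr with h1 | h1 <;> rcases C.squares u hu with h2 | h2 <;>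
      simp [h1, h2, C.ne, C.sq]

theorem QuadCore.comSign_flip (C : QuadCore R z) {a r u : Y} (ha : a ∈ R) (hr : r ∈ R) (hu : u ∈ R)
    (hau : u * a ≠ a * u) : comSign (a * r) u = -comSign r u := by
  have ha' := (C.comm a ha u hu).resolve_left hau
  have h1 : u * (a * r) = a * (u * r) * z := by
    rw [← mul_assoc, ha', mul_assoc (a * u), ← C.central r hr]; group
  unfold comSign
  rcases C.comm r hr u hu with h | h
  · rw [if_pos h, if_neg]
    intro hc
    rw [h1, h, ← mul_assoc] at hc
    exact C.ne (mul_eq_left.1 hc)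
  · have hne : u * r ≠ r * u := fun h' => C.ne (mul_left_cancel (a := r * u) (by rw [mul_one, ← h, h']))
    rw [if_neg hne, if_pos, neg_neg]
    rw [h1, h, ← mul_assoc, mul_assoc (a * (r * u)), C.sq, mul_one, mul_assoc]

open Classical in
theorem QuadCore.gauss (C : QuadCore R z) (h32 : Nat.card R = 32)
    (hcen : ∀ u ∈ R, (∀ a ∈ R, u * a = a * u) → u = 1 ∨ u = z) :
    Nat.card {r : R | (r : Y) * r = 1} = 12 ∨ Nat.card {r : R | (r : Y) * r = 1} = 20 := by
  haveI : Fintype R := Fintype.ofFinite R
  have hR32 : Fintype.card R = 32 := by rw [← Nat.card_eq_fintype_card, h32]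
  set S : ℤ := ∑ r : R, sqSign (r : Y) with hS
  have inner : ∀ u : R, ((∀ a ∈ R, (u : Y) * a = a * u) → ∑ r : R, comSign (r : Y) u = 32) ∧
      ((∃ a ∈ R, (u : Y) * a ≠ a * u) → ∑ r : R, comSign (r : Y) u = 0) := fun u => by
    refine ⟨fun h => ?_, ?_⟩
    · rw [Finset.sum_congr rfl (g := fun _ => (1 : ℤ)) fun r _ => by
        unfold comSign; rw [if_pos (h r r.2)]]
      simp [hR32]
    · rintro ⟨a, ha, hau⟩
      have h1 : ∑ r : R, comSign ((⟨a, ha⟩ * r : R) : Y) u = ∑ r : R, comSign (r : Y) u :=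
        Fintype.sum_equiv (Equiv.mulLeft (⟨a, ha⟩ : R)) _ _ fun _ => rfl
      rw [Finset.sum_congr rfl fun r _ => show comSign ((⟨a, ha⟩ * r : R) : Y) u = -comSign (r : Y) u from
        C.comSign_flip ha r.2 u.2 hau, Finset.sum_neg_distrib] at h1
      omega
  have h2 : S * S = 64 := by
    calc S * S = ∑ r : R, ∑ u : R, sqSign (r : Y) * sqSign ((r : Y) * u) := by
          rw [hS, Finset.sum_mul]
          refine Finset.sum_congr rfl fun r _ => ?_
          rw [← Finset.mul_sum]
          congr 1
          exact (Fintype.sum_equiv (Equiv.mulLeft r) _ _ fun _ => rfl).symm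
      _ = ∑ u : R, sqSign (u : Y) * ∑ r : R, comSign (r : Y) u := by
          rw [Finset.sum_comm]
          refine Finset.sum_congr rfl fun u _ => ?_
          rw [Finset.mul_sum]
          refine Finset.sum_congr rfl fun r _ => ?_
          rw [C.sqSign_mul r.2 u.2, mul_comm]
      _ = 64 := by
          have hne : (1 : R) ≠ ⟨z, C.mem⟩ := fun h => C.ne (congrArg Subtype.val h).symm
          rw [Finset.sum_eq_add (1 : R) ⟨z, C.mem⟩ hne]
          · rw [(inner 1).1 fun a _ => by simp, (inner ⟨z, C.mem⟩).1 fun a ha => (C.central a ha).symm]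
            simp [sqSign, C.sq]
          · rintro u - ⟨hu1, huz⟩
            rw [(inner u).2, mul_zero]
            by_contra hcon
            push Not at hcon
            rcases hcen u u.2 hcon with h | h
            · exact hu1 (Subtype.ext h)
            · exact huz (Subtype.ext h)
          · exact fun h => absurd (Finset.mem_univ _) h
          · exact fun h => absurd (Finset.mem_univ _) h
  have h3 : S = 2 * (Nat.card {r : R | (r : Y) * r = 1} : ℤ) - 32 := by
    have e : ∀ r : R, sqSign (r : Y) = 2 * (if (r : Y) * r = 1 then (1 : ℤ) else 0) - 1 := fun r => by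
      unfold sqSign; split_ifs <;> ring
    rw [hS]; simp_rw [e]
    rw [Finset.sum_sub_distrib, ← Finset.mul_sum, Finset.sum_boole, Finset.sum_const, Finset.card_univ, hR32]
    rw [Nat.card_coe_set_eq, Set.ncard_eq_toFinset_card', Set.toFinset_setOf]
    simp
  set I : ℤ := (Nat.card {r : R | (r : Y) * r = 1} : ℤ) with hI
  rw [h3] at h2
  have h4 : (I - 12) * (I - 20) = 0 := by linarith
  rcases mul_eq_zero.1 h4 with h | h
  · left; omega
  · right; omega

/-- The setting: squares of the core lie in a normal subgroup of order two, with a big quotient. -/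
theorem Top.quad (T : Top Y R) (Z : Subgroup Y) [Z.Normal] (hZR : Z ≤ R) (hZ2 : Nat.card Z = 2)
    (hsq : ∀ r ∈ R, r * r ∈ Z) (hne : ∃ r ∈ R, r * r ≠ 1) [(R.map (QuotientGroup.mk' Z)).Normal]
    (BV : Big (T.quot Z hZR) (R.map (QuotientGroup.mk' Z))) :
    ∃ z, QuadCore R z ∧ z ∈ Z ∧ (∀ y : Y, y * z = z * y) ∧ Nat.card R = 32 ∧
      (∀ r ∈ R, (∀ a ∈ R, r * a = a * r) → r = 1 ∨ r = z) ∧
      Nat.card {r : R | (r : Y) * r = 1} = 12 := by
  classical
  obtain ⟨z, hz, hz1⟩ := (bot_or_exists_ne_one Z).resolve_left (fun h => by rw [h, card_bot] at hZ2; omega)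
  have hZmem : ∀ w ∈ Z, w = 1 ∨ w = z := by
    intro w hw
    by_contra h
    push Not at h
    obtain ⟨x, y, hxy, hu⟩ := Nat.card_eq_two_iff.1 hZ2
    have a1 : (1 : Z) ∈ ({x, y} : Set Z) := hu ▸ Set.mem_univ _
    have a2 : (⟨z, hz⟩ : Z) ∈ ({x, y} : Set Z) := hu ▸ Set.mem_univ _
    have a3 : (⟨w, hw⟩ : Z) ∈ ({x, y} : Set Z) := hu ▸ Set.mem_univ _
    have b1 : (1 : Z) ≠ ⟨z, hz⟩ := fun e => hz1 (congrArg Subtype.val e).symm
    have b2 : (1 : Z) ≠ ⟨w, hw⟩ := fun e => h.1 (congrArg Subtype.val e).symm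
    have b3 : (⟨z, hz⟩ : Z) ≠ ⟨w, hw⟩ := fun e => h.2 (congrArg Subtype.val e).symm
    simp only [Set.mem_insert_iff, Set.mem_singleton_iff] at a1 a2 a3
    grind
  have hzc : ∀ y : Y, y * z = z * y := fun y => by
    rcases hZmem _ (Normal.conj_mem inferInstance z hz y) with h | h
    · exact absurd (conj_eq_one_iff.1 h) hz1
    · exact mul_inv_eq_iff_eq_mul.1 h
  have hzz : z * z = 1 := by
    rcases hZmem _ (Z.mul_mem hz hz) with h | h
    · exact h
    · exact absurd (mul_eq_left.1 h) hz1
  haveI := T.normal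
  set π := QuotientGroup.mk' Z with hπ
  have hπk : ∀ {r : Y}, π r = 1 ↔ r ∈ Z := fun {r} => QuotientGroup.eq_one_iff r
  have C : QuadCore R z := by
    refine ⟨hZR hz, hz1, hzz, fun r _ => hzc r, fun r hr => hZmem _ (hsq r hr), fun a ha b hb => ?_⟩
    have h1 : π (a * b) = π (b * a) := by
      rw [map_mul, map_mul, BV.comm _ (mem_map_of_mem π ha) _ (mem_map_of_mem π hb)]
    rcases hZmem _ (QuotientGroup.eq.1 h1) with h | h
    · exact Or.inl (inv_mul_eq_one.1 h).symm
    · exact Or.inr (inv_mul_eq_iff_eq_mul.1 h)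
  have h32 : Nat.card R = 32 := by
    let θ : R →* R.map π := π.subgroupMap R
    have hθk : θ.ker = Z.subgroupOf R := by
      ext r
      rw [MonoidHom.mem_ker, Subtype.ext_iff, mem_subgroupOf]
      exact hπk
    have h := θ.ker.card_mul_index
    rw [index_ker, MonoidHom.range_eq_top.2 (π.subgroupMap_surjective R), card_top, BV.card, hθk,
      Nat.card_congr (subgroupOfEquivOfLe hZR).toEquiv, hZ2] at h
    omega
  -- a normal subgroup of the core containing `Z` is `Z` or everything
  have hirr : ∀ N : Subgroup Y, N.Normal → N ≤ R → Z ≤ N → N = Z ∨ N = R := by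
    intro N hN hNR hZN
    haveI := hN
    haveI : (N.map π).Normal := Normal.map inferInstance _ (QuotientGroup.mk'_surjective Z)
    rcases BV.irred (map_mono hNR : N.map π ≤ R.map π) with h | h
    · exact Or.inl (le_antisymm (fun x hx => hπk.1 (mem_bot.1 (h ▸ mem_map_of_mem π hx))) hZN)
    · refine Or.inr (le_antisymm hNR fun r hr => ?_)
      obtain ⟨n, hn, e⟩ : π r ∈ N.map π := h ▸ mem_map_of_mem π hr
      simpa using N.mul_mem hn (hZN (QuotientGroup.eq.1 e))
  have hcen : ∀ r ∈ R, (∀ a ∈ R, r * a = a * r) → r = 1 ∨ r = z := by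
    intro r hr hra
    set N := R ⊓ centralizer (R : Set Y) with hN
    have hZN : Z ≤ N := fun w hw => ⟨hZR hw, fun a _ => by
      rcases hZmem w hw with rfl | rfl
      · simp
      · exact hzc a⟩
    rcases hirr N inferInstance inf_le_left hZN with h | h
    · exact hZmem r (h ▸ ⟨hr, fun a ha => (hra a ha).symm⟩)
    -- the core is abelian
    exfalso
    have hab : ∀ a ∈ R, ∀ b ∈ R, a * b = b * a := fun a ha b hb => (h ▸ hb : b ∈ N).2 a ha
    let M : Subgroup Y :=
      { carrier := {a | a ∈ R ∧ a * a = 1}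
        one_mem' := ⟨R.one_mem, one_mul 1⟩
        mul_mem' := fun {a b} ha hb => ⟨R.mul_mem ha.1 hb.1, by
          rw [mul_assoc, ← mul_assoc b, ← hab a ha.1 b hb.1, mul_assoc a b, hb.2, mul_one, ha.2]⟩
        inv_mem' := fun {a} ha => ⟨R.inv_mem ha.1, by rw [← mul_inv_rev, ha.2, inv_one]⟩ }
    have hMn : M.Normal := ⟨fun a ha y => ⟨Normal.conj_mem inferInstance a ha.1 y, by
      rw [show y * a * y⁻¹ * (y * a * y⁻¹) = y * (a * a) * y⁻¹ by group, ha.2]; group⟩⟩
    have hZM : Z ≤ M := fun w hw => ⟨hZR hw, by rcases hZmem w hw with rfl | rfl; exacts [one_mul 1, hzz]⟩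
    rcases hirr M hMn (fun a ha => ha.1) hZM with hM | hM
    · let sq : R →* Z :=
        { toFun := fun a => ⟨(a : Y) * a, hsq a a.2⟩
          map_one' := Subtype.ext (one_mul 1)
          map_mul' := fun a b => Subtype.ext (by
            show (a : Y) * b * (a * b) = a * a * (b * b)
            rw [mul_assoc (a : Y) b, ← mul_assoc (b : Y), hab b b.2 a a.2]; group) }
      have hk : sq.ker = Z.subgroupOf R := by
        ext a
        rw [MonoidHom.mem_ker, Subtype.ext_iff, mem_subgroupOf]
        exact ⟨fun e => (SetLike.ext_iff.1 hM (a : Y)).1 ⟨a.2, e⟩, fun e => ((SetLike.ext_iff.1 hM (a : Y)).2 e).2⟩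
      have h1 := sq.ker.card_mul_index
      rw [index_ker, hk, Nat.card_congr (subgroupOfEquivOfLe hZR).toEquiv, hZ2, h32] at h1
      have h2 : Nat.card sq.range ≤ 2 := hZ2 ▸ Subgroup.card_le_card_group _
      omega
    · obtain ⟨a, ha, ha1⟩ := hne
      exact ha1 (hM ▸ ha : a ∈ M).2
  refine ⟨z, C, hz, hzc, h32, hcen, (C.gauss h32 hcen).resolve_right fun h20 => ?_⟩
  -- the element of order five
  set s : Set (R.map π) := {v | ∃ r ∈ R, r * r = 1 ∧ π r = v} with hs
  obtain ⟨σ, -, -, -, hσ, hσ5, -, -, -, -, -, -⟩ := T.lifts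
  have hfive := subset_modEq (R.map π) Nat.prime_five (y := π σ)
    (fun w hw => BV.R_cent _ (by rw [← map_pow]; exact mem_map_of_mem π hσ5) w hw) s (by
      rintro v ⟨r, hr, hr1, e⟩
      refine ⟨σ * r * σ⁻¹, Normal.conj_mem inferInstance r hr σ, by
        rw [show σ * r * σ⁻¹ * (σ * r * σ⁻¹) = σ * (r * r) * σ⁻¹ by group, hr1]; group, ?_⟩
      rw [map_mul, map_mul, map_inv, e]
      rfl)
  have hfixed : Nat.card {w : R.map π | w ∈ s ∧ w ∈ fixIn (R.map π) (π σ)} = 1 := by
    rw [Nat.card_coe_set_eq, Set.ncard_eq_one]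
    refine ⟨1, Set.eq_singleton_iff_unique_mem.2 ⟨⟨⟨1, R.one_mem, one_mul 1, map_one π⟩, one_mem _⟩, ?_⟩⟩
    rintro w ⟨-, hw⟩
    exact Subtype.ext (BV.five_free (s := π σ) (by rw [T.quot_f]; exact hσ)
      (by rw [← map_pow]; exact mem_map_of_mem π hσ5) w.2 hw)
  rw [hfixed] at hfive
  have hcount : Nat.card {r : R | (r : Y) * r = 1} = 2 * Nat.card s := by
    have e : Nat.card (Fin 2 × s) = Nat.card {r : R | (r : Y) * r = 1} := by
      choose rep hrep hrep1 hrepπ using fun v : s => v.2
      let el : Fin 2 → Y := ![1, z]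
      have hel : ∀ i, el i ∈ Z := fun i => by fin_cases i; exacts [Z.one_mem, hz]
      have helinj : Function.Injective el := fun i j h => by
        fin_cases i <;> fin_cases j <;> first
          | rfl
          | exact absurd h.symm hz1
          | exact absurd h hz1
      refine Nat.card_congr (Equiv.ofBijective (fun p => ⟨⟨rep p.2 * el p.1,
        R.mul_mem (hrep p.2) (hZR (hel p.1))⟩, ?_⟩) ⟨?_, ?_⟩)
      · show rep p.2 * el p.1 * (rep p.2 * el p.1) = 1
        rcases hZmem _ (hel p.1) with h | h <;> rw [h]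
        · rw [mul_one, hrep1]
        · rw [mul_assoc, ← mul_assoc z, ← hzc, mul_assoc _ z z, hzz, mul_one, hrep1]
      · rintro ⟨i, v⟩ ⟨j, w⟩ h
        have h' : rep v * el i = rep w * el j := congrArg (fun q : {r : R | (r : Y) * r = 1} => ((q : R) : Y)) h
        have hv := congrArg π h'
        rw [map_mul, map_mul, hπk.2 (hel i), hπk.2 (hel j), mul_one, mul_one, hrepπ, hrepπ] at hv
        have hvw : v = w := Subtype.ext (Subtype.ext hv)
        subst hvw
        exact Prod.ext (helinj (mul_left_cancel h')) rfl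
      · rintro ⟨⟨r, hr⟩, hr1⟩
        set v : s := ⟨⟨π r, mem_map_of_mem π hr⟩, r, hr, hr1, rfl⟩ with hv
        rcases hZmem _ (QuotientGroup.eq.1 (hrepπ v)) with h | h
        · exact ⟨(0, v), Subtype.ext (Subtype.ext (by show rep v * 1 = r; rw [mul_one]; exact inv_mul_eq_one.1 h))⟩
        · exact ⟨(1, v), Subtype.ext (Subtype.ext (inv_mul_eq_iff_eq_mul.1 h).symm)⟩
    rw [← e, Nat.card_prod, Nat.card_eq_fintype_card, Fintype.card_fin]
  rw [h20] at hcount
  rw [show Nat.card s = 10 by omega] at hfive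
  simp [Nat.ModEq] at hfive

end Cfsg.Agent.Lie.ConstrainedFive
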